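import Groth.Agent.Lib.Kaehler.ToSect
import Groth.Agent.Lib.Kaehler.Chart

/-!
# Sections of a sheaf of differentials over affine opens
-/

set_option autoImplicit false
universe u

open CategoryTheory CategoryTheory.Limits AlgebraicGeometry TopologicalSpace Opposite OmegaSh

namespace Groth.Agent.Lib.Conormal92.OmegaSect

open Groth.Agent.Lib.Kaehler.Basic
open Groth.Agent.Lib.Kaehler

variable {X Y : Scheme.{u}} (f : X ⟶ Y) {U : X.Opens} {V : Y.Opens}

/-- Over affine opens the sections of a universal module of differentials are Kähler differentials. -/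
theorem exists_equiv (hU : IsAffineOpen U) (hV : IsAffineOpen V) (h : U ≤ f ⁻¹ᵁ V)
    {Ω : X.Modules} {d : Der f Ω} (hd : IsUniversal d) :
    ∃ E : Γ(Ω, U) ≃ₗ[Γ(X, U)] CommRingCat.KaehlerDifferential (f.appLE V U h),
      ∀ b : Γ(X, U), E (d.app U b) = CommRingCat.KaehlerDifferential.d b := by
  let φ := f.appLE V U h
  let j := hU.fromSpec
  obtain ⟨d', hd', hc⟩ := Chart.exists_isUniversal_chart f hU hV h hd
  obtain ⟨d'', hd'', hval⟩ := AffineUniv.exists_isUniversal_tilde φ
  obtain ⟨e, he⟩ := exists_iso_of_isUniversal hd' hd''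
  have htop : (⊤ : (Spec Γ(X, U)).Opens) ≤ j ⁻¹ᵁ U := hU.fromSpec_preimage_self.ge
  let g : Γ(Ω, U) → Γ(AffineUniv.omegaAff φ, ⊤) := fun y =>
    (AffineUniv.omegaAff φ).presheaf.map (homOfLE htop).op (e.hom.app (j ⁻¹ᵁ U) (pullSect j _ U y))
  have hres : ∀ r : Γ(X, U), (Spec Γ(X, U)).presheaf.map (homOfLE htop).op (j.app U r) =
      (Scheme.ΓSpecIso Γ(X, U)).inv r := fun r => by
    rw [hU.fromSpec_app_self, ConcreteCategory.comp_apply, ← ConcreteCategory.comp_apply, ← Functor.map_comp,
      Subsingleton.elim (_ ≫ _) (𝟙 (op (⊤ : (Spec Γ(X, U)).Opens))), CategoryTheory.Functor.map_id]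
    rfl
  have hg : Function.Bijective g := by
    have hi : IsIso (homOfLE htop) := ⟨homOfLE hU.fromSpec_preimage_self.le, rfl, rfl⟩
    exact (ConcreteCategory.bijective_of_isIso ((AffineUniv.omegaAff φ).presheaf.map (homOfLE htop).op)).comp
      ((ConcreteCategory.bijective_of_isIso (e.hom.app (j ⁻¹ᵁ U))).comp
        (ToSect.bijective_pullSect j _ U (hU.opensRange_fromSpec.ge)))
  let P := CommRingCat.KaehlerDifferential φ
  let t := tilde.toOpen P ⊤
  haveI : IsIso t := tilde.isIso_toOpen_top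
  let G : Γ(Ω, U) → P := fun y => (inv t).hom (g y)
  have hGbij : Function.Bijective G := (ConcreteCategory.bijective_of_isIso (inv t)).comp hg
  have hGadd : ∀ x y, G (x + y) = G x + G y := fun x y => by
    have : g (x + y) = g x + g y := by
      simp only [g, map_add]
    show (inv t).hom (g (x + y)) = _
    rw [this]
    exact map_add (inv t).hom _ _
  have hGsmul : ∀ (b : Γ(X, U)) (x : Γ(Ω, U)), G (b • x) = b • G x := fun b x => by
    have h1 : g (b • x) = (Scheme.ΓSpecIso Γ(X, U)).inv b • g x := by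
      simp only [g]
      erw [ToSect.pullSect_smul, Scheme.Modules.Hom.app_smul, Scheme.Modules.map_smul, hres]
    show (inv t).hom (g (b • x)) = b • (inv t).hom (g x)
    rw [h1, ← map_smul (inv t).hom]
    congr 1
  refine ⟨LinearEquiv.ofBijective ⟨⟨G, hGadd⟩, hGsmul⟩ hGbij, fun b => ?_⟩
  have h1 := hc U b
  have h2 : d''.app (j ⁻¹ᵁ U) (j.app U b) = e.hom.app (j ⁻¹ᵁ U) (d'.app (j ⁻¹ᵁ U) (j.app U b)) := by
    rw [← he]; rfl
  have h3 : g (d.app U b) = tilde.toOpen P ⊤ (CommRingCat.KaehlerDifferential.d b) := by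
    simp only [g]
    erw [h1, ← h2, ← der_app_map d'' htop, hres]
    exact hval b
  show (inv t).hom (g (d.app U b)) = _
  rw [h3]
  exact congr($(IsIso.hom_inv_id t).hom (CommRingCat.KaehlerDifferential.d b))

end Groth.Agent.Lib.Conormal92.OmegaSect
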