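import Groth.Agent.Lib.Kaehler.Conormal
import Groth.Agent.Lib.CechRes.PullSec
import Groth.Agent.Lib.Ample.QAffCrit
import Mathlib.AlgebraicGeometry.Morphisms.Immersion
import Mathlib.RingTheory.Ideal.Cotangent

/-!
# The conormal sheaf on affine charts

If `V ⊆ X` is affine, `i⁻¹V` is affine and `Γ(X, V) → Γ(Z, i⁻¹V)` is surjective with kernel `I`,
then the class map `I → Γ(C_{Z/X}, i⁻¹V)` is surjective with kernel `I²`.
-/

set_option autoImplicit false
universe u

open CategoryTheory CategoryTheory.Limits AlgebraicGeometry TopologicalSpace Opposite OmegaSh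
open scoped TensorProduct

namespace Groth.Agent.Lib.Conormal92.Affine

variable {Z X : Scheme.{u}} (i : Z ⟶ X)

theorem isQCoh_idealMod : (ClSub.idealMod i.ker).IsQuasicoherent :=
  Ample.QAffCrit.isQCoh_idealMod _

theorem isQCoh_conormal : (Omega.conormal i).IsQuasicoherent := by
  haveI := isQCoh_idealMod i
  exact QCoh.Pullback.isQCoh_pullback i _

/-- A chart of an immersion: affine, with affine preimage on which functions lift. -/
structure IsChart (V : X.Opens) : Prop where
  affine : IsAffineOpen V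
  affine_preimage : IsAffineOpen (i ⁻¹ᵁ V)
  surj : Function.Surjective (i.app V)

theorem isChart_of_closed [IsClosedImmersion i] {V : X.Opens} (hV : IsAffineOpen V) : IsChart i V :=
  ⟨hV, hV.preimage i, i.app_surjective V hV⟩

theorem isChart_of_le_coborder [IsImmersion i] {V : X.Opens} (hV : IsAffineOpen V)
    (h : V ≤ i.coborderRange) : IsChart i V := by
  let j := i.coborderRange.ι
  let l := i.liftCoborder
  have hj : V ≤ j.opensRange := by rwa [Scheme.Opens.opensRange_ι]
  have hV' : IsAffineOpen (j ⁻¹ᵁ V) := hV.preimage_of_isOpenImmersion j hj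
  have key : ∀ (f : Z ⟶ X) (_ : f = l ≫ j),
      IsAffineOpen (f ⁻¹ᵁ V) ∧ Function.Surjective (f.app V) := by
    rintro f rfl
    refine ⟨hV'.preimage l, ?_⟩
    haveI := j.isIso_app V hj
    rw [Scheme.Hom.comp_app]
    exact (l.app_surjective _ hV').comp (ConcreteCategory.bijective_of_isIso (j.app V)).2
  obtain ⟨h1, h2⟩ := key i i.liftCoborder_ι.symm
  exact ⟨hV, h1, h2⟩

/-- Every point of an immersed scheme lies in a chart inside any given open around it. -/
theorem exists_chart [IsImmersion i] (z : Z) {W : X.Opens} (hz : i z ∈ W) :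
    ∃ V : X.Opens, IsChart i V ∧ i z ∈ V ∧ V ≤ W := by
  have hz' : i z ∈ i.coborderRange := subset_coborder ⟨z, rfl⟩
  obtain ⟨V, hV, hzV, hVW⟩ := exists_isAffineOpen_mem_and_subset
    (U := W ⊓ i.coborderRange) (x := i z) ⟨hz, hz'⟩
  exact ⟨V, isChart_of_le_coborder i hV (fun x hx => (hVW hx).2), hzV, fun x hx => (hVW hx).1⟩

variable {i} [QuasiCompact i] {V : X.Opens}

/-- Ideal sections over an affine open are the elements of the ideal. -/
theorem exists_idealSect_iff (hV : IsAffineOpen V) (t : Γ(X, V)) :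
    (∃ k, idealSect i.ker V k = t) ↔ t ∈ RingHom.ker (i.app V).hom := by
  rw [← Scheme.Hom.ker_apply i ⟨V, hV⟩]
  exact ClSub.Sections.mem_range_idealModι_app_affine_iff i.ker ⟨V, hV⟩ t

omit [QuasiCompact i] in
theorem app_idealSect (k : Γ(ClSub.idealMod i.ker, V)) : i.app V (idealSect i.ker V k) = 0 :=
  Kaehler.Descend.app_idealSect i V k

/-- The submodule of ideal sections whose value lies in `I²`. -/
def sq (i : Z ⟶ X) (V : X.Opens) : Submodule Γ(X, V) Γ(ClSub.idealMod i.ker, V) where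
  carrier := {k | idealSect i.ker V k ∈ (RingHom.ker (i.app V).hom) ^ 2}
  zero_mem' := by simp
  add_mem' {a b} ha hb := by
    simp only [Set.mem_ofPred_eq, map_add]
    exact Ideal.add_mem _ ha hb
  smul_mem' r k hk := by
    simp only [Set.mem_ofPred_eq, Kaehler.Conormal.idealSect_smul]
    exact Ideal.mul_mem_left _ r hk

theorem sq_eq_smul_top (hV : IsAffineOpen V) :
    sq i V = RingHom.ker (i.app V).hom • (⊤ : Submodule Γ(X, V) Γ(ClSub.idealMod i.ker, V)) := by
  refine le_antisymm (fun k hk => ?_) ?_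
  · have hk' : idealSect i.ker V k ∈ RingHom.ker (i.app V).hom * RingHom.ker (i.app V).hom := by
      rw [← pow_two]; exact hk
    have : ∃ k' ∈ RingHom.ker (i.app V).hom • (⊤ : Submodule Γ(X, V) Γ(ClSub.idealMod i.ker, V)),
        idealSect i.ker V k' = idealSect i.ker V k := by
      refine Submodule.mul_induction_on hk' (fun a ha b hb => ?_) ?_
      · obtain ⟨k', rfl⟩ := (exists_idealSect_iff hV b).2 hb
        exact ⟨a • k', Submodule.smul_mem_smul ha trivial, Kaehler.Conormal.idealSect_smul i V a k'⟩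
      · rintro a b ⟨ka, hka, rfl⟩ ⟨kb, hkb, rfl⟩
        exact ⟨ka + kb, add_mem hka hkb, map_add _ _ _⟩
    obtain ⟨k', hk'', he⟩ := this
    rwa [← Kaehler.Conormal.idealSect_injective i V he]
  · refine Submodule.smul_le.2 fun a ha k _ => ?_
    change idealSect i.ker V (a • k) ∈ (RingHom.ker (i.app V).hom) ^ 2
    rw [Kaehler.Conormal.idealSect_smul, pow_two]
    exact Ideal.mul_mem_mul ha ((exists_idealSect_iff hV _).1 ⟨k, rfl⟩)

theorem one_tmul_spec {A B M : Type u} [CommRing A] [CommRing B] [Algebra A B] [AddCommGroup M]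
    [Module A M] (hs : Function.Surjective (algebraMap A B)) :
    Function.Surjective (fun k : M => (1 : B) ⊗ₜ[A] k) ∧
      ∀ k : M, (1 : B) ⊗ₜ[A] k = 0 ↔ k ∈ RingHom.ker (algebraMap A B) • (⊤ : Submodule A M) := by
  refine ⟨fun z => ?_, fun k => ?_⟩
  · induction z using TensorProduct.induction_on with
    | zero => exact ⟨0, TensorProduct.tmul_zero _ _⟩
    | tmul b m =>
      obtain ⟨a, rfl⟩ := hs b
      refine ⟨a • m, ?_⟩
      change (1 : B) ⊗ₜ[A] (a • m) = _
      rw [TensorProduct.tmul_smul, TensorProduct.smul_tmul', Algebra.smul_def, mul_one]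
    | add x y hx hy =>
      obtain ⟨kx, rfl⟩ := hx
      obtain ⟨ky, rfl⟩ := hy
      exact ⟨kx + ky, TensorProduct.tmul_add _ _ _⟩
  · let π : (A ⧸ RingHom.ker (algebraMap A B)) ≃ₐ[A] B :=
      Ideal.quotientKerAlgEquivOfSurjective (f := Algebra.ofId A B) hs
    let E := (LinearEquiv.rTensor M π.toLinearEquiv).symm ≪≫ₗ
      TensorProduct.quotTensorEquivQuotSMul M (RingHom.ker (algebraMap A B))
    have : E (1 ⊗ₜ k) = Submodule.Quotient.mk k := by
      simp only [E, LinearEquiv.trans_apply]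
      have h1 : (LinearEquiv.rTensor M π.toLinearEquiv).symm ((1 : B) ⊗ₜ k) =
          (1 : A ⧸ RingHom.ker (algebraMap A B)) ⊗ₜ k := by
        rw [LinearEquiv.symm_apply_eq, LinearEquiv.rTensor_tmul]
        exact congrArg (· ⊗ₜ k) (map_one π).symm
      rw [h1, ← map_one (Ideal.Quotient.mk _), TensorProduct.quotTensorEquivQuotSMul_mk_tmul,
        one_smul]
    rw [← E.map_eq_zero_iff, this, Submodule.Quotient.mk_eq_zero]

theorem conormalSect_spec (h : IsChart i V) :
    Function.Surjective (conormalSect i V) ∧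
      ∀ k, conormalSect i V k = 0 ↔ idealSect i.ker V k ∈ (RingHom.ker (i.app V).hom) ^ 2 := by
  haveI := isQCoh_idealMod i
  let M := ClSub.idealMod i.ker
  letI : Algebra Γ(X, V) Γ(Z, i ⁻¹ᵁ V) := (i.appLE V (i ⁻¹ᵁ V) le_rfl).hom.toAlgebra
  letI : Module Γ(X, V) Γ((Scheme.Modules.pullback i).obj M, i ⁻¹ᵁ V) :=
    Module.compHom _ (i.appLE V (i ⁻¹ᵁ V) le_rfl).hom
  haveI : IsScalarTower Γ(X, V) Γ(Z, i ⁻¹ᵁ V) Γ((Scheme.Modules.pullback i).obj M, i ⁻¹ᵁ V) :=
    IsScalarTower.of_algebraMap_smul fun _ _ => rfl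
  have hb := CechRes.PullSec.isBaseChange_mu i M h.affine h.affine_preimage le_rfl
  have hmu : ∀ k : Γ(M, V), CechRes.PullSec.mu i M (U := i ⁻¹ᵁ V) le_rfl k = conormalSect i V k := by
    intro k
    show ((Scheme.Modules.pullback i).obj M).presheaf.map (homOfLE le_rfl).op
      (conormalSect i V k) = conormalSect i V k
    rw [Subsingleton.elim (homOfLE le_rfl).op (𝟙 (op (i ⁻¹ᵁ V)))]
    erw [CategoryTheory.Functor.map_id]
    rfl
  have halg : algebraMap Γ(X, V) Γ(Z, i ⁻¹ᵁ V) = (i.app V).hom := by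
    show (i.appLE V (i ⁻¹ᵁ V) le_rfl).hom = _
    rw [← Scheme.Hom.app_eq_appLE]
  let e := hb.equiv
  have he : ∀ k : Γ(M, V), e (1 ⊗ₜ k) = conormalSect i V k := fun k => by
    rw [hb.equiv_tmul, one_smul]
    exact hmu k
  have hs : Function.Surjective (algebraMap Γ(X, V) Γ(Z, i ⁻¹ᵁ V)) := by
    rw [halg]; exact h.surj
  obtain ⟨hsur, hzero⟩ := one_tmul_spec hs (M := Γ(M, V))
  constructor
  · intro y
    obtain ⟨z, rfl⟩ := e.surjective y
    obtain ⟨k, rfl⟩ := hsur z
    exact ⟨k, (he k).symm⟩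
  · intro k
    rw [← he k]
    refine (LinearEquiv.map_eq_zero_iff e).trans ((hzero k).trans ?_)
    rw [halg, ← sq_eq_smul_top h.affine]
    rfl

/-- Equality of classes. -/
theorem conormalSect_eq_iff (h : IsChart i V) (k k' : Γ(ClSub.idealMod i.ker, V)) :
    conormalSect i V k = conormalSect i V k' ↔
      idealSect i.ker V k - idealSect i.ker V k' ∈ (RingHom.ker (i.app V).hom) ^ 2 := by
  rw [← map_sub (idealSect i.ker V), ← (conormalSect_spec h).2, map_sub, sub_eq_zero]

/-- `Γ(C_{Z/X}, i⁻¹V)` as a module over `Γ(X, V)`. -/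
noncomputable abbrev moduleConormal (i : Z ⟶ X) (V : X.Opens) :
    Module Γ(X, V) Γ(Omega.conormal i, i ⁻¹ᵁ V) :=
  Module.compHom _ (i.app V).hom

/-- The classes of ideal sections, as a linear map on the ideal. -/
theorem exists_cotangentEquiv (h : IsChart i V) :
    letI := moduleConormal i V
    ∃ e : (RingHom.ker (i.app V).hom).Cotangent ≃ₗ[Γ(X, V)] Γ(Omega.conormal i, i ⁻¹ᵁ V),
      ∀ (k : Γ(ClSub.idealMod i.ker, V)) (hk : idealSect i.ker V k ∈ RingHom.ker (i.app V).hom),
        e (Ideal.toCotangent _ ⟨idealSect i.ker V k, hk⟩) = conormalSect i V k := by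
  letI := moduleConormal i V
  let I := RingHom.ker (i.app V).hom
  have hmem : ∀ k, idealSect i.ker V k ∈ I := fun k => (exists_idealSect_iff h.affine _).1 ⟨k, rfl⟩
  let val : Γ(ClSub.idealMod i.ker, V) →ₗ[Γ(X, V)] I :=
    { toFun := fun k => ⟨idealSect i.ker V k, hmem k⟩
      map_add' := fun a b => Subtype.ext (map_add _ a b)
      map_smul' := fun r k => Subtype.ext (Kaehler.Conormal.idealSect_smul i V r k) }
  have hval : Function.Bijective val :=
    ⟨fun a b hab => Kaehler.Conormal.idealSect_injective i V (congrArg Subtype.val hab), fun t => by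
      obtain ⟨k, hk⟩ := (exists_idealSect_iff h.affine _).2 t.2
      exact ⟨k, Subtype.ext hk⟩⟩
  let v := LinearEquiv.ofBijective val hval
  let cl : Γ(ClSub.idealMod i.ker, V) →ₗ[Γ(X, V)] Γ(Omega.conormal i, i ⁻¹ᵁ V) :=
    { toFun := fun k => conormalSect i V k
      map_add' := map_add _
      map_smul' := fun r k => Kaehler.Conormal.conormalSect_smul i V r k }
  have hker : (I • ⊤ : Submodule Γ(X, V) I) = LinearMap.ker (cl ∘ₗ v.symm.toLinearMap) := by
    ext t
    obtain ⟨k, rfl⟩ := v.surjective t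
    rw [LinearMap.mem_ker, LinearMap.comp_apply, LinearEquiv.coe_coe, v.symm_apply_apply]
    refine ((Submodule.Quotient.mk_eq_zero _).symm.trans (Ideal.toCotangent_eq_zero I (v k))).trans ?_
    exact ((conormalSect_spec h).2 k).symm
  refine ⟨(Submodule.quotEquivOfEq _ _ hker) ≪≫ₗ
    (cl ∘ₗ v.symm.toLinearMap).quotKerEquivOfSurjective
      ((conormalSect_spec h).1.comp v.symm.surjective), fun k hk => ?_⟩
  change cl (v.symm ⟨idealSect i.ker V k, hk⟩) = _
  rw [show (⟨idealSect i.ker V k, hk⟩ : I) = v k from rfl, v.symm_apply_apply]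
  rfl

end Groth.Agent.Lib.Conormal92.Affine
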