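import Groth.Agent.Lib.Synt92.KRSmooth
import Groth.Agent.Lib.Synt92.KRGens
import Mathlib.RingTheory.Localization.Algebra

/-!
# A nested pair of Koszul-regular ideals with split conormal sequence
-/

set_option autoImplicit false
universe u

namespace Groth.Agent.Lib.Conormal92.SplitGen

open Groth.Agent.Lib.Synt92 KRLoc CubeComp Groth.Agent.Lib.Wiebe.Link

variable {A : Type u} [CommRing A]

/-- The hypothesis on the two ideals passes to the local ring. -/
theorem localize_split (P : Ideal A) [P.IsPrime] {I K : Ideal A}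
    (hs : ∀ x, x ∈ I → x ∈ P * K → x ∈ P * I) {x : Localization.AtPrime P}
    (h₁ : x ∈ I.map (algebraMap A _)) (h₂ : x ∈ (P * K).map (algebraMap A _)) :
    x ∈ (P * I).map (algebraMap A (Localization.AtPrime P)) := by
  obtain ⟨⟨⟨a, ha⟩, s⟩, he⟩ := (IsLocalization.mem_map_algebraMap_iff P.primeCompl _).1 h₁
  obtain ⟨⟨⟨b, hb⟩, t⟩, he'⟩ := (IsLocalization.mem_map_algebraMap_iff P.primeCompl _).1 h₂
  have e : algebraMap A (Localization.AtPrime P) (t * a) = algebraMap A _ (s * b) := by
    rw [map_mul, map_mul, ← he, ← he']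
    ring
  obtain ⟨c, hc⟩ := IsLocalization.exists_of_eq (M := P.primeCompl) e
  have hmem : (c.1 * t.1) * a ∈ P * I := by
    refine hs _ (Ideal.mul_mem_left _ _ ha) ?_
    rw [mul_assoc, hc]
    exact Ideal.mul_mem_left _ _ (Ideal.mul_mem_left _ _ hb)
  refine (IsLocalization.mem_map_algebraMap_iff P.primeCompl _).2
    ⟨⟨⟨_, hmem⟩, c * t * s⟩, ?_⟩
  simp only [Submonoid.coe_mul, map_mul]
  rw [← he]
  ring

/-- The rank of the bigger ideal in the quotient by the smaller one. -/
theorem genLoc_map {B : Type u} [CommRing B] (φ : A →+* B) (hφ : Function.Surjective φ)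
    {n r : ℕ} {K : Ideal A} (hIK : RingHom.ker φ ≤ K) (Q : Ideal B) [Q.IsPrime]
    (hKP : K ≤ Q.comap φ) (hI : GenLoc n (RingHom.ker φ) (Q.comap φ))
    (hK : GenLoc r K (Q.comap φ))
    (hs : ∀ x, x ∈ RingHom.ker φ → x ∈ Q.comap φ * K → x ∈ Q.comap φ * RingHom.ker φ) :
    ∃ e, GenLoc e (K.map φ) Q := by
  set P := Q.comap φ with hPdef
  haveI : P.IsPrime := Ideal.IsPrime.comap _
  set I := RingHom.ker φ with hIdef
  obtain ⟨g₁, hg₁, hgI⟩ := hI
  obtain ⟨g₂, hg₂, hgK⟩ := hK
  set g₀ := g₁ * g₂ with hg₀def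
  have hg₀ : g₀ ∉ P := P.primeCompl.mul_mem hg₁ hg₂
  set L := Localization.Away g₀
  haveI : Module.Flat A L := IsLocalization.flat _ (Submonoid.powers g₀)
  have hu : ∀ x, x ∣ g₀ → IsUnit (algebraMap A L x) := fun x hx =>
    isUnit_of_dvd_unit (map_dvd _ hx) (IsLocalization.Away.algebraMap_isUnit g₀)
  obtain ⟨b, hb, hbI⟩ := KRGens.exists_numerators g₀ L
    (gen_of_isUnit g₁ _ hgI L (hu _ (dvd_mul_right _ _)))
  obtain ⟨f, hf, hfK⟩ := KRGens.exists_numerators g₀ L
    (gen_of_isUnit g₂ _ hgK L (hu _ (dvd_mul_left _ _)))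
  set R := Localization.AtPrime P
  have hu0 : IsUnit (algebraMap A R g₀) := IsLocalization.map_units R (⟨g₀, hg₀⟩ : P.primeCompl)
  let ψ : L →+* R := IsLocalization.Away.lift g₀ hu0
  have hψ : ψ.comp (algebraMap A L) = algebraMap A R := IsLocalization.Away.lift_comp g₀ hu0
  have hψf : ψ.Flat := by
    letI := ψ.toAlgebra
    haveI : IsScalarTower A L R := IsScalarTower.of_algebraMap_eq' hψ.symm
    exact (Module.flat_iff_of_isLocalization L (Submonoid.powers g₀) (M := R)).2
      (IsLocalization.flat _ P.primeCompl)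
  have hbR : Acyc (algebraMap A R ∘ b) := by
    have := CubeBase.acyc_flat_ringHom ψ hψf _ hb
    rwa [← Function.comp_assoc, ← RingHom.coe_comp, hψ] at this
  have hfR : Acyc (algebraMap A R ∘ f) := by
    have := CubeBase.acyc_flat_ringHom ψ hψf _ hf
    rwa [← Function.comp_assoc, ← RingHom.coe_comp, hψ] at this
  have hIR : I.map (algebraMap A R) = Ideal.span (Set.range (algebraMap A R ∘ b)) := by
    rw [← hψ, ← Ideal.map_map, hbI, Ideal.map_span, ← Set.range_comp]
    rfl
  have hKR : K.map (algebraMap A R) = Ideal.span (Set.range (algebraMap A R ∘ f)) := by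
    rw [← hψ, ← Ideal.map_map, hfK, Ideal.map_span, ← Set.range_comp]
    rfl
  have hm : P.map (algebraMap A R) = IsLocalRing.maximalIdeal R :=
    Localization.AtPrime.map_eq_maximalIdeal
  have hKm : K.map (algebraMap A R) ≤ IsLocalRing.maximalIdeal R := hm ▸ Ideal.map_mono hKP
  obtain ⟨e, a, hde, C, haT, hC, hF⟩ := KRGens.exists_completion (algebraMap A R ∘ f) hfR
    (fun i => hKm (hKR ▸ Ideal.subset_span ⟨i, rfl⟩)) (algebraMap A R '' K) (algebraMap A R ∘ b)
    (fun x ⟨k, hk, hx⟩ => hKR ▸ hx ▸ Ideal.mem_map_of_mem _ hk)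
    (fun i => hKR ▸ Ideal.map_mono hIK (hIR ▸ Ideal.subset_span ⟨i, rfl⟩))
    (hKR ▸ le_sup_of_le_left (Ideal.span_mono Set.subset_union_left))
    (fun c hc i => by
      have h1 : (∑ j, c j * (algebraMap A R ∘ b) j) ∈ I.map (algebraMap A R) :=
        hIR ▸ Ideal.mem_span_range_iff_exists_fun.2 ⟨c, rfl⟩
      rw [← hKR, ← hm, ← Ideal.map_mul] at hc
      have h2 := localize_split P hs h1 hc
      rw [Ideal.map_mul, hm, hIR, Ideal.mul_comm] at h2
      obtain ⟨c', hc', hcc⟩ : ∃ c' : Fin n → R, (∀ j, c' j ∈ IsLocalRing.maximalIdeal R) ∧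
          ∑ j, c' j * (algebraMap A R ∘ b) j = ∑ j, c j * (algebraMap A R ∘ b) j := by
        generalize (∑ j, c j * (algebraMap A R ∘ b) j) = y at h2
        refine Submodule.mul_induction_on h2 (fun p hp q hq => ?_) ?_
        · obtain ⟨d, rfl⟩ := Ideal.mem_span_range_iff_exists_fun.1 hp
          exact ⟨fun j => q * d j, fun j => Ideal.mul_mem_right _ _ hq, by
            rw [Finset.sum_mul]; exact Finset.sum_congr rfl fun j _ => by ring⟩
        · rintro _ _ ⟨d, hd, rfl⟩ ⟨d', hd', rfl⟩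
          exact ⟨d + d', fun j => add_mem (hd j) (hd' j), by simp [add_mul, Finset.sum_add_distrib]⟩
      have h3 := CubeBase.mem_span_of_relation hbR (c := fun j => c j - c' j)
        (by rw [Finset.sum_congr rfl fun j _ => sub_mul (c j) (c' j) _, Finset.sum_sub_distrib, hcc, sub_self]) i
      have h4 : c i - c' i ∈ IsLocalRing.maximalIdeal R :=
        hKm (Ideal.map_mono hIK (hIR ▸ h3))
      simpa using add_mem h4 (hc' i))
  choose a' ha' hae using haT
  subst hde
  obtain ⟨h, hh, hhu, hFA, hFspan⟩ := KRSmooth.exists_spread P g₀ hg₀ f (app a' b) hf C hC (by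
    rw [map_app, show algebraMap A R ∘ a' = a from funext hae, hF]
    rfl)
  set S := Localization.Away h
  set σ := algebraMap A S
  haveI : Module.Flat A S := IsLocalization.flat _ (Submonoid.powers h)
  let θ : L →+* S := IsLocalization.Away.lift g₀ hhu
  have hθ : θ.comp (algebraMap A L) = σ := IsLocalization.Away.lift_comp g₀ hhu
  have hθf : θ.Flat := by
    letI := θ.toAlgebra
    haveI : IsScalarTower A L S := IsScalarTower.of_algebraMap_eq' hθ.symm
    exact (Module.flat_iff_of_isLocalization L (Submonoid.powers g₀) (M := S)).2 ‹_›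
  have hbS : Acyc (σ ∘ b) := by
    have := CubeBase.acyc_flat_ringHom θ hθf _ hb
    rwa [← Function.comp_assoc, ← RingHom.coe_comp, hθ] at this
  have hIS : I.map σ = Ideal.span (Set.range (σ ∘ b)) := by
    rw [← hθ, ← Ideal.map_map, hbI, Ideal.map_span, ← Set.range_comp]
    rfl
  have hKS : K.map σ = Ideal.span (Set.range (σ ∘ app a' b)) := by
    rw [hFspan, ← hθ, ← Ideal.map_map, hfK, Ideal.map_span, ← Set.range_comp]
    rfl
  rw [map_app] at hFA hKS
  let T := Localization.Away (φ h)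
  haveI : IsLocalization ((Submonoid.powers h).map φ) T := by
    rw [Submonoid.map_powers]
    infer_instance
  let χ : S →+* T := IsLocalization.map (M := Submonoid.powers h) T φ (Submonoid.le_comap_map _)
  have hχs : Function.Surjective χ := IsLocalization.map_surjective_of_surjective _ _ _ hφ
  have hχc : χ.comp σ = (algebraMap B T).comp φ :=
    IsLocalization.map_comp (Submonoid.le_comap_map _)
  have hχk : RingHom.ker χ = Ideal.span (Set.range (σ ∘ b)) := by
    rw [← hIS]
    exact IsLocalization.ker_map (S := S) T φ rfl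
  refine ⟨e, genLoc_mk (φ h) hh T ⟨_, acyc_of_app χ hχs (σ ∘ a') (σ ∘ b) hχk hbS hFA, ?_⟩⟩
  have h0 : χ ∘ (σ ∘ b) = fun _ => 0 := funext fun i =>
    RingHom.mem_ker.1 (hχk ▸ Ideal.subset_span ⟨i, rfl⟩)
  rw [Ideal.map_map, ← hχc, ← Ideal.map_map, hKS, Ideal.map_span, ← Set.range_comp, map_app, h0,
    range_app, Ideal.span_union]
  exact sup_eq_left.2 (Ideal.span_le.2 (by rintro _ ⟨i, rfl⟩; exact zero_mem _))

end Groth.Agent.Lib.Conormal92.SplitGen
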