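import Groth.Agent.Lib.Conormal92.Inject
import Groth.Agent.Lib.Conormal92.SplitGen

/-!
# A split conormal sequence forces the second immersion to be Koszul-regular
-/

set_option autoImplicit false
universe u

open CategoryTheory CategoryTheory.Limits AlgebraicGeometry TopologicalSpace Opposite OmegaSh
open Groth.Agent.Lib Groth.Agent.Lib.Synt92

namespace Groth.Agent.Lib.Conormal92.SplitRegular

variable {Z : Scheme.{u}}

/-- A retraction on an open gives additive semilinear retractions on the smaller opens. -/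
theorem exists_retraction {M N : Z.Modules} (φ : M ⟶ N) {U : Z.Opens}
    (ρ : (Scheme.Modules.restrictFunctor U.ι).obj N ⟶ (Scheme.Modules.restrictFunctor U.ι).obj M)
    (hρ : (Scheme.Modules.restrictFunctor U.ι).map φ ≫ ρ = 𝟙 _) {W : Z.Opens} (hW : W ≤ U) :
    ∃ r : Γ(N, W) →+ Γ(M, W), (∀ (a : Γ(Z, W)) (y : Γ(N, W)), r (a • y) = a • r y) ∧
      ∀ x, r (φ.app W x) = x := by
  obtain ⟨W₀, rfl⟩ : ∃ W₀ : U.toScheme.Opens, U.ι ''ᵁ W₀ = W :=
    ⟨U.ι ⁻¹ᵁ W, (U.ι.image_preimage_eq_opensRange_inf W).trans (by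
      rw [Scheme.Opens.opensRange_ι, inf_eq_right.2 hW])⟩
  have he : ∀ a : Γ(Z, U.ι ''ᵁ W₀), (U.ι.appIso W₀).inv a = a := fun a => by
    rw [Scheme.Opens.ι_appIso]
    rfl
  let r : Γ(N, U.ι ''ᵁ W₀) →+ Γ(M, U.ι ''ᵁ W₀) := (ρ.app W₀).hom
  refine ⟨r, fun a y => ?_, fun x => ?_⟩
  · have h : r ((U.ι.appIso W₀).inv a • y) = (U.ι.appIso W₀).inv a • r y :=
      Scheme.Modules.Hom.app_smul ρ a y
    erw [he] at h
    exact h
  exact congrArg (fun q => Scheme.Modules.Hom.app q W₀ x) hρ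

variable {X Y : Scheme.{u}} {i : Y ⟶ X} {j : Z ⟶ Y}

/-- An ideal section whose class in the pulled back conormal sheaf vanishes lies in `K · I`. -/
theorem mem_mul_of_pullSect_eq_zero [IsClosedImmersion i] [IsClosedImmersion j] {V : X.Opens}
    (hV : IsAffineOpen V) (k : Γ(ClSub.idealMod i.ker, V))
    (hk : pullSect j (Omega.conormal i) (i ⁻¹ᵁ V) (conormalSect i V k) = 0) :
    idealSect i.ker V k ∈ RingHom.ker ((j ≫ i).app V).hom * RingHom.ker (i.app V).hom := by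
  haveI := Affine.isQCoh_conormal i
  let M := Omega.conormal i
  let U := i ⁻¹ᵁ V
  letI : Algebra Γ(Y, U) Γ(Z, j ⁻¹ᵁ U) := (j.appLE U (j ⁻¹ᵁ U) le_rfl).hom.toAlgebra
  letI : Module Γ(Y, U) Γ((Scheme.Modules.pullback j).obj M, j ⁻¹ᵁ U) :=
    Module.compHom _ (j.appLE U (j ⁻¹ᵁ U) le_rfl).hom
  haveI : IsScalarTower Γ(Y, U) Γ(Z, j ⁻¹ᵁ U) Γ((Scheme.Modules.pullback j).obj M, j ⁻¹ᵁ U) :=
    IsScalarTower.of_algebraMap_smul fun _ _ => rfl
  have hb := CechRes.PullSec.isBaseChange_mu j M (hV.preimage i) ((hV.preimage i).preimage j) le_rfl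
  have halg : algebraMap Γ(Y, U) Γ(Z, j ⁻¹ᵁ U) = (j.app U).hom := by
    show (j.appLE U (j ⁻¹ᵁ U) le_rfl).hom = _
    rw [← Scheme.Hom.app_eq_appLE]
  have hs : Function.Surjective (algebraMap Γ(Y, U) Γ(Z, j ⁻¹ᵁ U)) := by
    rw [halg]; exact j.app_surjective U (hV.preimage i)
  have h0 : (1 : Γ(Z, j ⁻¹ᵁ U)) ⊗ₜ[Γ(Y, U)] (conormalSect i V k : Γ(M, U)) = 0 := by
    rw [← LinearEquiv.map_eq_zero_iff hb.equiv, hb.equiv_tmul, one_smul]
    show ((Scheme.Modules.pullback j).obj M).presheaf.map (homOfLE le_rfl).op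
      (pullSect j M (i ⁻¹ᵁ V) (conormalSect i V k)) = 0
    rw [hk, map_zero]
  have hmem := ((Affine.one_tmul_spec hs (M := Γ(M, U))).2 _).1 h0
  rw [halg] at hmem
  have hch := Affine.isChart_of_closed i hV
  suffices ∃ k', conormalSect i V k' = conormalSect i V k ∧
      idealSect i.ker V k' ∈ RingHom.ker ((j ≫ i).app V).hom * RingHom.ker (i.app V).hom by
    obtain ⟨k', hk', hmem'⟩ := this
    have h2 := (Affine.conormalSect_eq_iff hch k k').1 hk'.symm
    have hle : (RingHom.ker (i.app V).hom) ^ 2 ≤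
        RingHom.ker ((j ≫ i).app V).hom * RingHom.ker (i.app V).hom := by
      rw [pow_two]
      refine Ideal.mul_mono_left fun x hx => ?_
      rw [RingHom.mem_ker] at hx ⊢
      show j.app (i ⁻¹ᵁ V) (i.app V x) = 0
      rw [show i.app V x = 0 from hx, map_zero]
    simpa using add_mem (hle h2) hmem'
  refine Submodule.smul_induction_on hmem (fun a ha c _ => ?_) ?_
  · obtain ⟨a', rfl⟩ := hch.surj a
    obtain ⟨k', rfl⟩ := (Affine.conormalSect_spec hch).1 c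
    refine ⟨a' • k', Kaehler.Conormal.conormalSect_smul i V a' k', ?_⟩
    rw [Kaehler.Conormal.idealSect_smul]
    exact Ideal.mul_mem_mul ha ((Affine.exists_idealSect_iff hV _).1 ⟨k', rfl⟩)
  · rintro x y ⟨k₁, h₁, h₁'⟩ ⟨k₂, h₂, h₂'⟩
    exact ⟨k₁ + k₂, by rw [map_add, h₁, h₂], by rw [map_add]; exact add_mem h₁' h₂'⟩

/-- A left inverse of the first conormal map on sections forces the ideals to be split. -/
theorem mem_mul_of_retraction [IsClosedImmersion i] [IsClosedImmersion j]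
    {φ₁ : (Scheme.Modules.pullback j).obj (Omega.conormal i) ⟶ Omega.conormal (j ≫ i)}
    (hφ₁ : IsConormalMap (j ≫ i) i (𝟙 X) j φ₁) {V : X.Opens} (hV : IsAffineOpen V)
    (r : Γ(Omega.conormal (j ≫ i), (j ≫ i) ⁻¹ᵁ V) →+
      Γ((Scheme.Modules.pullback j).obj (Omega.conormal i), (j ≫ i) ⁻¹ᵁ V))
    (hr : ∀ (a : Γ(Z, (j ≫ i) ⁻¹ᵁ V)) y, r (a • y) = a • r y)
    (hrφ : ∀ x, r (φ₁.app ((j ≫ i) ⁻¹ᵁ V) x) = x) (P : Ideal Γ(X, V))
    (hKP : RingHom.ker ((j ≫ i).app V).hom ≤ P) (x : Γ(X, V)) (hx : x ∈ RingHom.ker (i.app V).hom)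
    (hxP : x ∈ P * RingHom.ker ((j ≫ i).app V).hom) : x ∈ P * RingHom.ker (i.app V).hom := by
  obtain ⟨k, rfl⟩ := (Affine.exists_idealSect_iff hV x).2 hx
  have hval : ∀ m, φ₁.app ((j ≫ i) ⁻¹ᵁ V) (pullSect j (Omega.conormal i) (i ⁻¹ᵁ V) (conormalSect i V m)) =
      conormalSect (j ≫ i) V (Kaehler.Conormal.liftSect hφ₁.1 V m) := fun m => by
    refine Eq.trans (Kaehler.Conormal.app_eq hφ₁ V m) ?_
    exact congr($((Omega.conormal (j ≫ i)).presheaf.map_id _) _)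
  suffices ∀ y ∈ P * RingHom.ker ((j ≫ i).app V).hom, ∃ (l : Γ(ClSub.idealMod (j ≫ i).ker, V))
      (w : Γ(ClSub.idealMod i.ker, V)), idealSect (j ≫ i).ker V l = y ∧
      idealSect i.ker V w ∈ P * RingHom.ker (i.app V).hom ∧
      r (conormalSect (j ≫ i) V l) = pullSect j (Omega.conormal i) (i ⁻¹ᵁ V) (conormalSect i V w) by
    obtain ⟨l, w, hl, hw, hlw⟩ := this _ hxP
    have hl' : l = Kaehler.Conormal.liftSect hφ₁.1 V k :=
      Kaehler.Conormal.idealSect_injective (j ≫ i) V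
        (hl.trans (Kaehler.Conormal.idealSect_liftSect hφ₁.1 V k).symm)
    rw [hl', ← hval k, hrφ] at hlw
    have hd := mem_mul_of_pullSect_eq_zero (j := j) hV (k - w) (by
      rw [map_sub, map_sub, hlw, sub_self])
    rw [map_sub] at hd
    simpa using add_mem (Ideal.mul_mono_left hKP hd) hw
  intro y hy
  refine Submodule.mul_induction_on hy (fun p hp t ht => ?_) ?_
  · obtain ⟨l, rfl⟩ := (Affine.exists_idealSect_iff hV t).2 ht
    obtain ⟨w, hw⟩ := Inject.exists_pullSect_eq (i := i) (j := j) hV (r (conormalSect (j ≫ i) V l))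
    refine ⟨p • l, p • w, Kaehler.Conormal.idealSect_smul (j ≫ i) V p l, ?_, ?_⟩
    · rw [Kaehler.Conormal.idealSect_smul]
      exact Ideal.mul_mem_mul hp ((Affine.exists_idealSect_iff hV _).1 ⟨w, rfl⟩)
    · rw [Kaehler.Conormal.conormalSect_smul, Kaehler.Conormal.conormalSect_smul]
      refine (hr _ _).trans ?_
      rw [← hw]
      exact (Scheme.Modules.Hom.app_smul
        ((Scheme.Modules.pullbackPushforwardAdjunction j).unit.app (Omega.conormal i))
        (i.app V p) (conormalSect i V w)).symm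
  · rintro y₁ y₂ ⟨l₁, w₁, e₁, m₁, c₁⟩ ⟨l₂, w₂, e₂, m₂, c₂⟩
    exact ⟨l₁ + l₂, w₁ + w₂, by rw [map_add, e₁, e₂], by rw [map_add]; exact add_mem m₁ m₂,
      by rw [map_add, map_add, c₁, c₂, map_add, map_add]; rfl⟩

/-- The second immersion is Koszul-regular at every point with a local retraction. -/
theorem atN_of_retraction [IsClosedImmersion i] [IsClosedImmersion j]
    {φ₁ : (Scheme.Modules.pullback j).obj (Omega.conormal i) ⟶ Omega.conormal (j ≫ i)}
    (hφ₁ : IsConormalMap (j ≫ i) i (𝟙 X) j φ₁) (z : Z) {n r : ℕ} (hi : KRImm.AtN n i (j z))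
    (hij : KRImm.AtN r (j ≫ i) z) {U : Z.Opens} (hzU : z ∈ U)
    (ρ : (Scheme.Modules.restrictFunctor U.ι).obj (Omega.conormal (j ≫ i)) ⟶
      (Scheme.Modules.restrictFunctor U.ι).obj ((Scheme.Modules.pullback j).obj (Omega.conormal i)))
    (hρ : (Scheme.Modules.restrictFunctor U.ι).map φ₁ ≫ ρ = 𝟙 _) : ∃ e, KRImm.AtN e j z := by
  obtain ⟨O', hO', hOU⟩ := (j ≫ i).isClosedEmbedding.isInducing.isOpen_iff.1 U.2
  let O : X.Opens := ⟨O', hO'⟩
  have hO : (j ≫ i) ⁻¹ᵁ O = U := Opens.ext hOU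
  have hzO : (j ≫ i) z ∈ O := by
    show z ∈ (j ≫ i) ⁻¹ᵁ O
    rwa [hO]
  obtain ⟨V, hV, hzV, hVO⟩ := exists_isAffineOpen_mem_and_subset (U := O) (x := (j ≫ i) z) hzO
  obtain ⟨ret, hret, hretφ⟩ := exists_retraction φ₁ ρ hρ (W := (j ≫ i) ⁻¹ᵁ V)
    (hO ▸ (j ≫ i).preimage_mono (fun x hx => hVO hx))
  have hpV := hV.preimage i
  have hzV' : i (j z) ∈ V := hzV
  set Q := (hpV.primeIdealOf ⟨j z, hzV'⟩).asIdeal
  haveI : Q.IsPrime := (hpV.primeIdealOf ⟨j z, hzV'⟩).isPrime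
  have hP : Q.comap (i.app V).hom = (hV.primeIdealOf ⟨i (j z), hzV'⟩).asIdeal := by
    ext a
    rw [← not_iff_not, Ideal.mem_comap, ← KRImm.mem_basicOpen_iff, ← KRImm.mem_basicOpen_iff,
      ← Scheme.preimage_basicOpen]
    rfl
  have hKP : RingHom.ker ((j ≫ i).app V).hom ≤ Q.comap (i.app V).hom := fun a ha => by
    rw [hP]
    by_contra h
    have h1 : z ∈ (j ≫ i) ⁻¹ᵁ X.basicOpen a :=
      (KRImm.mem_basicOpen_iff hV a ⟨i (j z), hzV'⟩).2 h
    rw [Scheme.preimage_basicOpen, show (j ≫ i).app V a = 0 from ha, Scheme.basicOpen_zero] at h1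
    exact h1
  have hgI : KRLoc.GenLoc n (RingHom.ker (i.app V).hom) (Q.comap (i.app V).hom) := by
    rw [hP]; exact KRImm.genAt_of_atN hi hV inferInstance hzV'
  have hgK : KRLoc.GenLoc r (RingHom.ker ((j ≫ i).app V).hom) (Q.comap (i.app V).hom) := by
    rw [hP]; exact KRImm.genAt_of_atN hij hV inferInstance hzV
  have hIK : RingHom.ker (i.app V).hom ≤ RingHom.ker ((j ≫ i).app V).hom := fun x hx => by
    rw [RingHom.mem_ker] at hx ⊢
    show j.app (i ⁻¹ᵁ V) (i.app V x) = 0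
    rw [show i.app V x = 0 from hx, map_zero]
  obtain ⟨e, he⟩ := SplitGen.genLoc_map (i.app V).hom (i.app_surjective V hV) hIK Q hKP hgI hgK
    fun x hx hxP => mem_mul_of_retraction hφ₁ hV ret hret hretφ _ hKP x hx hxP
  refine ⟨e, KRImm.atN_of_genAt hpV inferInstance hzV' ?_⟩
  unfold KRImm.GenAt
  convert he using 1
  rw [show RingHom.ker ((j ≫ i).app V).hom = (RingHom.ker (j.app (i ⁻¹ᵁ V)).hom).comap (i.app V).hom
    from by rw [RingHom.comap_ker]; rfl, Ideal.map_comap_of_surjective _ (i.app_surjective V hV)]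

end Groth.Agent.Lib.Conormal92.SplitRegular
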