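import Groth.Agent.Lib.Conormal92.SplitInj
import Groth.Agent.Lib.Kaehler.SmoothChart
import Groth.Agent.Lib.Kaehler.Descend
import Groth.Agent.Lib.Kaehler.Exists
import Groth.Agent.Lib.CurveBundle.Coherent
import Groth.Agent.Lib.Perfect.Top
import Groth.Agent.H63.SectionOmega
import Groth.Agent.Lib.SmoothLift.Formal

/-!
# The conormal sheaf of a smooth subscheme of a smooth scheme
-/

set_option autoImplicit false
universe u

open CategoryTheory CategoryTheory.Limits AlgebraicGeometry TopologicalSpace Opposite OmegaSh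
open Groth.Agent.Lib

namespace Groth.Agent.Lib.Conormal92.SmoothRank

theorem rank_add {R M N P : Type u} [CommRing R] [Nontrivial R] [AddCommGroup M] [AddCommGroup N]
    [AddCommGroup P] [Module R M] [Module R N] [Module R P] {a b c : ℕ}
    (bM : Module.Basis (Fin a) R M) (bN : Module.Basis (Fin b) R N) (bP : Module.Basis (Fin c) R P)
    (f : M →ₗ[R] N) (g : N →ₗ[R] P) (hf : Function.Injective f) (hg : Function.Surjective g)
    (hex : ∀ y, g y = 0 → ∃ x, f x = y) (h0 : ∀ x, g (f x) = 0) : b = a + c := by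
  haveI := Module.Free.of_basis bP
  obtain ⟨s, hs⟩ := Module.projective_lifting_property g LinearMap.id hg
  have hs' : ∀ z, g (s z) = z := fun z => congr($hs z)
  let e : (M × P) ≃ₗ[R] N := LinearEquiv.ofBijective (f.coprod s)
    ⟨(injective_iff_map_eq_zero _).2 fun p hp => by
      rw [LinearMap.coprod_apply] at hp
      have h2 := congrArg g hp
      rw [map_add, map_zero, h0, zero_add, hs'] at h2
      rw [h2, map_zero, add_zero] at hp
      exact Prod.ext (hf (hp.trans (map_zero f).symm)) h2,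
    fun y => by
      obtain ⟨x, hx⟩ := hex (y - s (g y)) (by rw [map_sub, hs', sub_self])
      exact ⟨(x, g y), by rw [LinearMap.coprod_apply, hx, sub_add_cancel]⟩⟩
  have := Module.finrank_eq_card_basis ((bM.prod bP).map e)
  rw [Module.finrank_eq_card_basis bN] at this
  simpa using this

variable {X : Scheme.{u}}

/-- Ranks of free modules near a point add in a short exact sequence. -/
theorem rank_eq_add (S : ShortComplex X.Modules) (hS : S.ShortExact) {U₁ U₂ U₃ : X.Opens} {a b c : ℕ}
    (i₁ : S.X₁.restrict U₁.ι ≅ FlatMod.freeMod (↑U₁) a) (i₂ : S.X₂.restrict U₂.ι ≅ FlatMod.freeMod (↑U₂) b)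
    (i₃ : S.X₃.restrict U₃.ι ≅ FlatMod.freeMod (↑U₃) c) {x : X} (h₁ : x ∈ U₁) (h₂ : x ∈ U₂)
    (h₃ : x ∈ U₃) : b = a + c := by
  obtain ⟨s₁, hs₁⟩ := CurveBundle.Coherent.exists_basis_sections i₁
  obtain ⟨s₂, hs₂⟩ := CurveBundle.Coherent.exists_basis_sections i₂
  obtain ⟨s₃, hs₃⟩ := CurveBundle.Coherent.exists_basis_sections i₃
  have hx := (Modules.Stalk.shortExact_iff_stalk S).1 hS x
  refine rank_add (Module.Basis.mk (hs₁ x h₁).1 (hs₁ x h₁).2.ge)
    (Module.Basis.mk (hs₂ x h₂).1 (hs₂ x h₂).2.ge) (Module.Basis.mk (hs₃ x h₃).1 (hs₃ x h₃).2.ge)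
    (Modules.StalkModule.stalkMapₗ S.f x) (Modules.StalkModule.stalkMapₗ S.g x) hx.ab_injective_f
    hx.ab_surjective_g (fun y hy => (ShortComplex.ab_exact_iff _).1 hx.exact y hy) fun z => ?_
  have h := congrArg (fun q => (Modules.Stalk.stalkFunctor X x).map q z) S.zero
  simp only [Functor.map_comp, Functor.map_zero] at h
  exact h

end Groth.Agent.Lib.Conormal92.SmoothRank
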