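import Groth.Agent.Lib.Conormal92.Affine
import Groth.Agent.Lib.QCohChart.Basic
import Groth.Agent.Lib.Kaehler.ConormalTriple
import Groth.Agent.Lib.Synt92.KRImm
import Groth.Agent.Lib.Synt92.KoszulH1

/-!
# Left exactness of the conormal sequence for a Koszul-regular second immersion
-/

set_option autoImplicit false
universe u

open CategoryTheory CategoryTheory.Limits AlgebraicGeometry TopologicalSpace Opposite OmegaSh
open Groth.Agent.Lib Groth.Agent.Lib.Synt92

namespace Groth.Agent.Lib.Conormal92.Inject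


/-- `ker φ ∩ K² ⊆ K · ker φ` when `K` is the preimage of an ideal generated by a sequence with
trivial relations. -/
theorem mem_mul_of_mem_sq {A B : Type u} [CommRing A] [CommRing B] (φ : A →+* B)
    (hφ : Function.Surjective φ) {n : ℕ} (g : Fin n → B)
    (hg : ∀ z : Fin n → B, ∑ i, g i • z i = 0 → Groth.Agent.H26.Triv.IsTriv g z)
    {K : Ideal A} (hK : K = (Ideal.span (Set.range g)).comap φ) {t : A} (ht : t ∈ RingHom.ker φ)
    (ht2 : t ∈ K ^ 2) : t ∈ K * RingHom.ker φ := by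
  choose G hG using fun i => hφ (g i)
  have hIK : RingHom.ker φ ≤ K := fun a ha => by
    rw [hK, Ideal.mem_comap, RingHom.mem_ker.1 ha]; exact Ideal.zero_mem _
  have hK' : K = Ideal.span (Set.range G) ⊔ RingHom.ker φ := by
    rw [hK, show Set.range g = φ '' Set.range G by
      rw [← Set.range_comp]; exact congrArg Set.range (funext fun i => (hG i).symm),
      ← Ideal.map_span, Ideal.comap_map_of_surjective φ hφ, RingHom.ker_eq_comap_bot]
  have h2 : t ∈ K * Ideal.span (Set.range G) ⊔ K * RingHom.ker φ := by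
    rw [← Ideal.mul_sup, ← hK', ← pow_two]; exact ht2
  obtain ⟨b, hb, e, he, hbe⟩ := Submodule.mem_sup.1 h2
  obtain ⟨a, ha, rfl⟩ : ∃ a : Fin n → A, (∀ i, a i ∈ K) ∧ b = ∑ i, G i * a i := by
    refine Submodule.mul_induction_on hb (fun x hx y hy => ?_) ?_
    · obtain ⟨c, rfl⟩ := Ideal.mem_span_range_iff_exists_fun.1 hy
      exact ⟨fun i => x * c i, fun i => Ideal.mul_mem_right _ _ hx, by
        rw [Finset.mul_sum]; exact Finset.sum_congr rfl fun i _ => by ring⟩
    · rintro x y ⟨c, hc, rfl⟩ ⟨d, hd, rfl⟩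
      exact ⟨c + d, fun i => add_mem (hc i) (hd i), by simp [mul_add, Finset.sum_add_distrib]⟩
  subst hbe
  have he0 : φ e = 0 := RingHom.mem_ker.1 ((Ideal.mul_le_inf (I := K) (J := RingHom.ker φ) he).2)
  have hrel : ∑ i, g i • φ (a i) = 0 := by
    have h := RingHom.mem_ker.1 ht
    rw [map_add, he0, add_zero, map_sum] at h
    rw [← h]
    exact Finset.sum_congr rfl fun i _ => by rw [map_mul, hG, smul_eq_mul]
  obtain ⟨s, hs⟩ := hg _ hrel
  choose S hS using fun i j => hφ (s i j)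
  have hd : ∀ i, a i - ∑ j, G j * (S i j - S j i) ∈ RingHom.ker φ := fun i => by
    rw [RingHom.mem_ker, map_sub, map_sum, show φ (a i) = _ from hs i, sub_eq_zero]
    exact Finset.sum_congr rfl fun j _ => by rw [smul_eq_mul, map_mul, map_sub, hG, hS, hS]
  have hanti : ∑ i, G i * ∑ j, G j * (S i j - S j i) = 0 := by
    simp only [Finset.mul_sum, mul_sub, Finset.sum_sub_distrib]
    rw [sub_eq_zero]
    conv_lhs => rw [Finset.sum_comm]
    exact Finset.sum_congr rfl fun i _ => Finset.sum_congr rfl fun j _ => by ring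
  refine add_mem ?_ he
  rw [show ∑ i, G i * a i = ∑ i, G i * (a i - ∑ j, G j * (S i j - S j i)) by
    simp only [mul_sub (G _) (a _), Finset.sum_sub_distrib, hanti, sub_zero]]
  exact Submodule.sum_mem _ fun i _ => Ideal.mul_mem_mul
    (hK' ▸ Ideal.mem_sup_left (Ideal.subset_span ⟨i, rfl⟩)) (hd i)

variable {X Y Z : Scheme.{u}} (i : Y ⟶ X) (j : Z ⟶ Y)

/-- Around a point, a chart of `i` on whose preimage the ideal of `j` has a Koszul-regular
generating sequence. -/
theorem exists_gen_chart [IsClosedImmersion i] [IsClosedImmersion j] (z : Z) {m : ℕ}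
    (hj : KRImm.AtN m j z) {O : X.Opens} (hz : i (j z) ∈ O) :
    ∃ V : X.Opens, IsAffineOpen V ∧ i (j z) ∈ V ∧ V ≤ O ∧
      KRLoc.Gen m (RingHom.ker (j.app (i ⁻¹ᵁ V)).hom) := by
  obtain ⟨U, hU, hzU, hUO⟩ := exists_isAffineOpen_mem_and_subset (U := O) (x := i (j z)) hz
  have hpU := hU.preimage i
  have hcl : IsClosedImmersion (j ∣_ (i ⁻¹ᵁ U)) := inferInstance
  obtain ⟨h, hh, hgen⟩ := KRImm.genAt_of_atN hj hpU hcl hzU
  obtain ⟨a, rfl⟩ := i.app_surjective U hU h
  have e : i ⁻¹ᵁ X.basicOpen a = Y.basicOpen (i.app U a) := Scheme.preimage_basicOpen i a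
  refine ⟨X.basicOpen a, hU.basicOpen a, ?_, fun x hx => hUO (X.basicOpen_le a hx), ?_⟩
  · show j z ∈ i ⁻¹ᵁ X.basicOpen a
    rw [e]
    exact (KRImm.mem_basicOpen_iff hpU (i.app U a) ⟨j z, hzU⟩).2 hh
  · rw [e]
    haveI := hpU.isLocalization_basicOpen (i.app U a)
    haveI : Module.Flat Γ(Y, i ⁻¹ᵁ U) Γ(Y, Y.basicOpen (i.app U a)) :=
      IsLocalization.flat _ (Submonoid.powers (i.app U a : Γ(Y, i ⁻¹ᵁ U)))
    have h' := KRLoc.gen_of_isUnit (i.app U a : Γ(Y, i ⁻¹ᵁ U)) (Localization.Away _) hgen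
      Γ(Y, Y.basicOpen (i.app U a)) (IsLocalization.Away.algebraMap_isUnit _)
    rwa [KRImm.ker_app_basicOpen j hpU hcl]

variable {i j} {φ₁ : (Scheme.Modules.pullback j).obj (Omega.conormal i) ⟶ Omega.conormal (j ≫ i)}

/-- Every section of the pulled back conormal sheaf on a chart is the class of an ideal section. -/
theorem exists_pullSect_eq [IsClosedImmersion i] [IsClosedImmersion j] {V : X.Opens}
    (hV : IsAffineOpen V) (y : Γ((Scheme.Modules.pullback j).obj (Omega.conormal i), j ⁻¹ᵁ (i ⁻¹ᵁ V))) :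
    ∃ k, pullSect j (Omega.conormal i) (i ⁻¹ᵁ V) (conormalSect i V k) = y := by
  haveI := Affine.isQCoh_conormal i
  let M := Omega.conormal i
  let U := i ⁻¹ᵁ V
  letI : Algebra Γ(Y, U) Γ(Z, j ⁻¹ᵁ U) := (j.appLE U (j ⁻¹ᵁ U) le_rfl).hom.toAlgebra
  letI : Module Γ(Y, U) Γ((Scheme.Modules.pullback j).obj M, j ⁻¹ᵁ U) :=
    Module.compHom _ (j.appLE U (j ⁻¹ᵁ U) le_rfl).hom
  haveI : IsScalarTower Γ(Y, U) Γ(Z, j ⁻¹ᵁ U) Γ((Scheme.Modules.pullback j).obj M, j ⁻¹ᵁ U) :=
    IsScalarTower.of_algebraMap_smul fun _ _ => rfl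
  have hb := CechRes.PullSec.isBaseChange_mu j M (hV.preimage i) ((hV.preimage i).preimage j) le_rfl
  obtain ⟨w, rfl⟩ := hb.equiv.surjective y
  have hs : Function.Surjective (algebraMap Γ(Y, U) Γ(Z, j ⁻¹ᵁ U)) := by
    show Function.Surjective (j.appLE U (j ⁻¹ᵁ U) le_rfl)
    rw [← Scheme.Hom.app_eq_appLE]
    exact j.app_surjective U (hV.preimage i)
  obtain ⟨x, rfl⟩ := (Affine.one_tmul_spec hs (M := Γ(M, U))).1 w
  obtain ⟨k, rfl⟩ := (Affine.conormalSect_spec (Affine.isChart_of_closed i hV)).1 x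
  refine ⟨k, ?_⟩
  rw [hb.equiv_tmul, one_smul]
  show _ = ((Scheme.Modules.pullback j).obj M).presheaf.map (homOfLE le_rfl).op
    (pullSect j M (i ⁻¹ᵁ V) (conormalSect i V k))
  rw [Subsingleton.elim (homOfLE le_rfl).op (𝟙 (op (j ⁻¹ᵁ U)))]
  erw [CategoryTheory.Functor.map_id]
  rfl

theorem pullSect_eq_zero_of_mem_mul [IsClosedImmersion i] [IsClosedImmersion j] {V : X.Opens}
    (hV : IsAffineOpen V) (k : Γ(ClSub.idealMod i.ker, V))
    (hk : idealSect i.ker V k ∈ RingHom.ker ((j ≫ i).app V).hom * RingHom.ker (i.app V).hom) :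
    pullSect j (Omega.conormal i) (i ⁻¹ᵁ V) (conormalSect i V k) = 0 := by
  obtain ⟨k', hk', he⟩ : ∃ k', pullSect j (Omega.conormal i) (i ⁻¹ᵁ V) (conormalSect i V k') = 0 ∧
      idealSect i.ker V k' = idealSect i.ker V k := by
    refine Submodule.mul_induction_on hk (fun a ha b hb => ?_) ?_
    · obtain ⟨kb, rfl⟩ := (Affine.exists_idealSect_iff hV b).2 hb
      refine ⟨a • kb, ?_, Kaehler.Conormal.idealSect_smul i V a kb⟩
      rw [Kaehler.Conormal.conormalSect_smul]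
      refine (Scheme.Modules.Hom.app_smul
        ((Scheme.Modules.pullbackPushforwardAdjunction j).unit.app (Omega.conormal i))
        (i.app V a) (conormalSect i V kb)).trans ?_
      have h0 : j.app (i ⁻¹ᵁ V) (i.app V a) = 0 := ha
      show (j.app (i ⁻¹ᵁ V) (i.app V a) •
        pullSect j (Omega.conormal i) (i ⁻¹ᵁ V) (conormalSect i V kb) :
          Γ((Scheme.Modules.pullback j).obj (Omega.conormal i), j ⁻¹ᵁ (i ⁻¹ᵁ V))) = 0
      rw [h0, zero_smul]
    · rintro x y ⟨kx, hx, rfl⟩ ⟨ky, hy, rfl⟩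
      exact ⟨kx + ky, by rw [map_add, map_add, hx, hy, add_zero], map_add _ _ _⟩
  rwa [← Kaehler.Conormal.idealSect_injective i V he]

/-- The map `j^* C_{Y/X} → C_{Z/X}` is injective when `j` is a Koszul-regular closed immersion. -/
theorem mono_of_koszul [IsClosedImmersion i] [IsClosedImmersion j]
    (hφ₁ : IsConormalMap (j ≫ i) i (𝟙 X) j φ₁) (hj : ∀ z, ∃ m, KRImm.AtN m j z) : Mono φ₁ := by
  haveI := Affine.isQCoh_conormal i
  haveI := Affine.isQCoh_conormal (j ≫ i)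
  haveI : ((Scheme.Modules.pullback j).obj (Omega.conormal i)).IsQuasicoherent :=
    QCoh.Pullback.isQCoh_pullback j _
  refine QCohChart.Basic.mono_of_charts φ₁ fun z => ?_
  obtain ⟨m, hm⟩ := hj z
  obtain ⟨V, hV, hzV, -, hgen⟩ := exists_gen_chart i j z hm (O := ⊤) trivial
  obtain ⟨g, hg, hker⟩ := hgen
  refine ⟨j ⁻¹ᵁ (i ⁻¹ᵁ V), (hV.preimage i).preimage j, hzV, ?_⟩
  rw [injective_iff_map_eq_zero]
  intro y hy
  obtain ⟨k, rfl⟩ := exists_pullSect_eq hV y
  have h1 := Kaehler.Conormal.app_eq hφ₁ V k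
  rw [hy] at h1
  have h2 : conormalSect (j ≫ i) V (Kaehler.Conormal.liftSect hφ₁.1 V k) = 0 := by
    refine Eq.trans ?_ h1.symm
    exact (congr($((Omega.conormal (j ≫ i)).presheaf.map_id _) _)).symm
  rw [(Affine.conormalSect_spec (Affine.isChart_of_closed (j ≫ i) hV)).2] at h2
  have e : idealSect (j ≫ i).ker V (Kaehler.Conormal.liftSect hφ₁.1 V k) = idealSect i.ker V k :=
    Kaehler.Conormal.idealSect_liftSect hφ₁.1 V k
  erw [e] at h2
  refine pullSect_eq_zero_of_mem_mul hV k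
    (mem_mul_of_mem_sq (i.app V).hom (i.app_surjective V hV) g
      (fun z hz => KoszulH1.isTriv_of_acyc hg z hz) ?_
      ((Affine.exists_idealSect_iff hV _).1 ⟨k, rfl⟩) h2)
  rw [← hker]
  rfl

end Groth.Agent.Lib.Conormal92.Inject
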