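import Groth.Agent.Lib.Conormal92.Affine
import Groth.Agent.Lib.Conormal92.OmegaSect
import Groth.Agent.Lib.QCohChart.Basic
import Groth.Agent.Lib.Kaehler.FSmooth
import Groth.Agent.Lib.Kaehler.Finite
import Mathlib.RingTheory.Smooth.Kaehler

/-!
# The conormal map into differentials is injective when the subscheme is formally smooth
-/

set_option autoImplicit false
universe u

open CategoryTheory CategoryTheory.Limits AlgebraicGeometry TopologicalSpace Opposite OmegaSh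
open Groth.Agent.Lib
open scoped TensorProduct

namespace Groth.Agent.Lib.Conormal92.SplitInj

/-- The conormal map is injective when the quotient is formally smooth. -/
theorem kerCotangentToTensor_injective {R P S : Type u} [CommRing R] [CommRing P] [CommRing S]
    [Algebra R P] [Algebra P S] [Algebra R S] [IsScalarTower R P S] [Algebra.FormallySmooth R S]
    (hf : Function.Surjective (algebraMap P S)) :
    Function.Injective (KaehlerDifferential.kerCotangentToTensor R P S) := by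
  let π := (IsScalarTower.toAlgHom R P S).kerSquareLift
  have hπ : Function.Surjective π := fun s => by
    obtain ⟨p, rfl⟩ := hf s
    exact ⟨Ideal.Quotient.mk _ p, rfl⟩
  have hsq : IsNilpotent (RingHom.ker π.toRingHom) := ⟨2, by
    rw [AlgHom.ker_kerSquareLift]
    exact Ideal.cotangentIdeal_square _⟩
  let g := Algebra.FormallySmooth.liftOfSurjective (AlgHom.id R S) π hπ hsq
  have hg : π.comp g = AlgHom.id R S := Algebra.FormallySmooth.comp_liftOfSurjective _ _ hπ hsq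
  obtain ⟨l, hl⟩ := (retractionKerCotangentToTensorEquivSection hf).symm ⟨g, hg⟩
  exact Function.LeftInverse.injective (g := l) fun x => congr($hl x)

variable {X' X Y : Scheme.{u}} {j : X' ⟶ X} [QuasiCompact j] {f : X ⟶ Y} {Ω : X.Modules}
  {d : Der f Ω} {φ : Omega.conormal j ⟶ (Scheme.Modules.pullback j).obj Ω}

theorem injective_app (hd : IsUniversal d) (hφ : IsConormalDiff j d φ) {V : X.Opens}
    (hch : Affine.IsChart j V) {Y₀ : Y.Opens} (hY₀ : IsAffineOpen Y₀) (e : V ≤ f ⁻¹ᵁ Y₀)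
    (hfs : ((j ≫ f).appLE Y₀ (j ⁻¹ᵁ V) (by rw [Scheme.Hom.comp_preimage]; exact j.preimage_mono e)).hom.FormallySmooth) :
    Function.Injective (φ.app (j ⁻¹ᵁ V)) := by
  haveI : Ω.IsQuasicoherent := by
    exact Kaehler.Finite.isQuasicoherent hd
  obtain ⟨E, hE⟩ := OmegaSect.exists_equiv f hch.affine hY₀ e hd
  letI : Algebra Γ(Y, Y₀) Γ(X, V) := (f.appLE Y₀ V e).hom.toAlgebra
  letI : Algebra Γ(X, V) Γ(X', j ⁻¹ᵁ V) := (j.appLE V (j ⁻¹ᵁ V) le_rfl).hom.toAlgebra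
  letI : Algebra Γ(Y, Y₀) Γ(X', j ⁻¹ᵁ V) :=
    ((j ≫ f).appLE Y₀ (j ⁻¹ᵁ V) (by rw [Scheme.Hom.comp_preimage]; exact j.preimage_mono e)).hom.toAlgebra
  haveI : IsScalarTower Γ(Y, Y₀) Γ(X, V) Γ(X', j ⁻¹ᵁ V) := IsScalarTower.of_algebraMap_eq fun a =>
    (congrArg (fun (q : Γ(Y, Y₀) ⟶ Γ(X', j ⁻¹ᵁ V)) => q a)
      (Scheme.Hom.appLE_comp_appLE j f Y₀ V (j ⁻¹ᵁ V) e le_rfl)).symm
  haveI : Algebra.FormallySmooth Γ(Y, Y₀) Γ(X', j ⁻¹ᵁ V) := hfs
  have halg : algebraMap Γ(X, V) Γ(X', j ⁻¹ᵁ V) = (j.app V).hom := by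
    show (j.appLE V (j ⁻¹ᵁ V) le_rfl).hom = _
    rw [← Scheme.Hom.app_eq_appLE]
  have hs : Function.Surjective (algebraMap Γ(X, V) Γ(X', j ⁻¹ᵁ V)) := by
    rw [halg]; exact hch.surj
  have hinj := kerCotangentToTensor_injective (R := Γ(Y, Y₀)) hs
  letI : Module Γ(X, V) Γ((Scheme.Modules.pullback j).obj Ω, j ⁻¹ᵁ V) :=
    Module.compHom _ (j.appLE V (j ⁻¹ᵁ V) le_rfl).hom
  haveI : IsScalarTower Γ(X, V) Γ(X', j ⁻¹ᵁ V) Γ((Scheme.Modules.pullback j).obj Ω, j ⁻¹ᵁ V) :=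
    IsScalarTower.of_algebraMap_smul fun _ _ => rfl
  have hb := CechRes.PullSec.isBaseChange_mu j Ω hch.affine hch.affine_preimage le_rfl
  let E' : Γ(Ω, V) →ₗ[Γ(X, V)] Ω[Γ(X, V)⁄Γ(Y, Y₀)] :=
    { toFun := fun y => E y, map_add' := map_add E, map_smul' := map_smul E }
  let L := hb.lift ((TensorProduct.mk Γ(X, V) Γ(X', j ⁻¹ᵁ V) Ω[Γ(X, V)⁄Γ(Y, Y₀)] 1) ∘ₗ E')
  rw [injective_iff_map_eq_zero]
  intro y hy
  obtain ⟨k, rfl⟩ := (Affine.conormalSect_spec hch).1 y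
  rw [hφ V k] at hy
  have hmem : idealSect j.ker V k ∈ RingHom.ker (algebraMap Γ(X, V) Γ(X', j ⁻¹ᵁ V)) := by
    rw [halg]; exact (Affine.exists_idealSect_iff hch.affine _).1 ⟨k, rfl⟩
  have hmu : CechRes.PullSec.mu j Ω (U := j ⁻¹ᵁ V) le_rfl (d.app V (idealSect j.ker V k)) = 0 := by
    show ((Scheme.Modules.pullback j).obj Ω).presheaf.map (homOfLE le_rfl).op
      (pullSect j Ω V (d.app V (idealSect j.ker V k))) = 0
    erw [hy, map_zero]
  have h0 : KaehlerDifferential.kerCotangentToTensor Γ(Y, Y₀) Γ(X, V) Γ(X', j ⁻¹ᵁ V)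
      (Ideal.toCotangent _ ⟨idealSect j.ker V k, hmem⟩) = 0 := by
    rw [KaehlerDifferential.kerCotangentToTensor_toCotangent]
    have h1 := hb.lift_eq ((TensorProduct.mk Γ(X, V) Γ(X', j ⁻¹ᵁ V) Ω[Γ(X, V)⁄Γ(Y, Y₀)] 1) ∘ₗ E')
      (d.app V (idealSect j.ker V k))
    have h3 : KaehlerDifferential.D Γ(Y, Y₀) Γ(X, V) (idealSect j.ker V k) =
        E' (d.app V (idealSect j.ker V k)) := (hE (idealSect j.ker V k)).symm
    refine (congrArg (fun z : Ω[Γ(X, V)⁄Γ(Y, Y₀)] => (1 : Γ(X', j ⁻¹ᵁ V)) ⊗ₜ[Γ(X, V)] z) h3).trans ?_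
    refine h1.symm.trans ?_
    refine (congrArg L hmu).trans (map_zero L)
  have h2 := hinj (h0.trans (map_zero _).symm)
  rw [Ideal.toCotangent_eq_zero] at h2
  refine ((Affine.conormalSect_spec hch).2 k).2 ?_
  rw [← halg]
  exact h2

end Groth.Agent.Lib.Conormal92.SplitInj
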