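import Groth.Agent.Lib.Conormal92.MapApp
import Groth.Agent.Lib.QCohChart.Basic
import Groth.Agent.Lib.Synt92.KRDescentScheme
import Mathlib.RingTheory.Flat.Basic

/-!
# Base change of the conormal sheaf
-/

set_option autoImplicit false
universe u

open CategoryTheory CategoryTheory.Limits AlgebraicGeometry TopologicalSpace Opposite OmegaSh
open Groth.Agent.Lib Groth.Agent.Lib.Synt92
open scoped TensorProduct

namespace Groth.Agent.Lib.Conormal92.BaseChange

/-- For flat `A → B` the multiplication `B ⊗ I → B` is injective. -/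
theorem injective_mulMap {A B M : Type u} [CommRing A] [CommRing B] [Algebra A B] [Module.Flat A B]
    [AddCommGroup M] [Module A M] (val : M →ₗ[A] A) (hval : Function.Injective val) :
    Function.Injective (LinearMap.liftBaseChange B ((Algebra.linearMap A B) ∘ₗ val)) := by
  have h : ⇑(LinearMap.liftBaseChange B ((Algebra.linearMap A B) ∘ₗ val)) =
      ⇑((TensorProduct.rid A B).toLinearMap ∘ₗ val.lTensor B) := by
    funext z
    induction z using TensorProduct.induction_on with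
    | zero => simp
    | tmul b m => simp [Algebra.smul_def, mul_comm]
    | add x y hx hy => simp [map_add, hx, hy]
  rw [h]
  exact (TensorProduct.rid A B).injective.comp (Module.Flat.lTensor_preserves_injective_linearMap _ hval)

variable {Z X Z' X' : Scheme.{u}} {i : Z ⟶ X} {i' : Z' ⟶ X'} {g : X ⟶ X'} {gZ : Z ⟶ Z'}
  {φ : (Scheme.Modules.pullback gZ).obj (Omega.conormal i') ⟶ Omega.conormal i}

theorem chart_spec [QuasiCompact i] [QuasiCompact i'] (hsq : IsPullback i gZ g i')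
    (hφ : IsConormalMap i i' g gZ φ) {V' : X'.Opens} (hV' : IsAffineOpen V')
    (hc : IsClosedImmersion (i' ∣_ V')) {V : X.Opens} (hV : IsAffineOpen V) (eV : V ≤ g ⁻¹ᵁ V') :
    Function.Surjective (φ.app (i ⁻¹ᵁ V)) ∧ (Flat g → Function.Injective (φ.app (i ⁻¹ᵁ V))) := by
  obtain ⟨hcV, hker⟩ := KRDescentScheme.ker_baseChange i' g i gZ hsq.flip hV' hc hV eV
  obtain ⟨hW', hs'⟩ := KRImm.isAffine_preimage i' hV' hc
  obtain ⟨hW, hs⟩ := KRImm.isAffine_preimage i hV hcV
  have hch' : Affine.IsChart i' V' := ⟨hV', hW', hs'⟩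
  have hch : Affine.IsChart i V := ⟨hV, hW, hs⟩
  have eW : i ⁻¹ᵁ V ≤ gZ ⁻¹ᵁ (i' ⁻¹ᵁ V') := by
    refine (i.preimage_mono eV).trans (le_of_eq ?_)
    rw [← Scheme.Hom.comp_preimage, hsq.w, Scheme.Hom.comp_preimage]
  haveI := Affine.isQCoh_conormal i'
  let N := (Scheme.Modules.pullback gZ).obj (Omega.conormal i')
  let C' := Omega.conormal i'
  let μ : Γ(C', i' ⁻¹ᵁ V') → Γ(N, i ⁻¹ᵁ V) := CechRes.PullSec.mu gZ C' eW
  letI algA : Algebra Γ(X', V') Γ(X, V) := (g.appLE V' V eV).hom.toAlgebra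
  letI modN : Module Γ(X, V) Γ(N, i ⁻¹ᵁ V) := Module.compHom _ (i.app V).hom
  letI : Module Γ(X', V') Γ(N, i ⁻¹ᵁ V) := Module.compHom _ (g.appLE V' V eV).hom
  haveI : IsScalarTower Γ(X', V') Γ(X, V) Γ(N, i ⁻¹ᵁ V) := IsScalarTower.of_algebraMap_smul fun _ _ => rfl
  have hcomm : ∀ a : Γ(X', V'), gZ.appLE (i' ⁻¹ᵁ V') (i ⁻¹ᵁ V) eW (i'.app V' a) =
      i.app V (g.appLE V' V eV a) := by
    have key : ∀ (q q' : Z ⟶ X') (_ : q = q') (W : Z.Opens) (e : W ≤ q ⁻¹ᵁ V') (e' : W ≤ q' ⁻¹ᵁ V')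
        (a : Γ(X', V')), q.appLE V' W e a = q'.appLE V' W e' a := by rintro q _ rfl W e e' a; rfl
    intro a
    simp only [← ConcreteCategory.comp_apply, Scheme.Hom.app_eq_appLE, Scheme.Hom.appLE_comp_appLE]
    exact key _ _ hsq.w.symm _ _ _ a
  let M' := Γ(ClSub.idealMod i'.ker, V')
  let ℓ : M' →ₗ[Γ(X', V')] Γ(N, i ⁻¹ᵁ V) :=
    { toFun := fun k' => μ (conormalSect i' V' k')
      map_add' := fun a b => by simp only [μ, map_add]
      map_smul' := fun a k' => by
        show μ (conormalSect i' V' (a • k')) =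
          (i.app V (g.appLE V' V eV a)) • μ (conormalSect i' V' k')
        rw [← hcomm, Kaehler.Conormal.conormalSect_smul]
        exact map_smulₛₗ (CechRes.PullSec.mu gZ C' eW) _ _ }
  let L := LinearMap.liftBaseChange Γ(X, V) ℓ
  let val : M' →ₗ[Γ(X', V')] Γ(X', V') :=
    { toFun := fun k' => idealSect i'.ker V' k'
      map_add' := map_add _
      map_smul' := fun a k' => Kaehler.Conormal.idealSect_smul i' V' a k' }
  let v := LinearMap.liftBaseChange Γ(X, V) ((Algebra.linearMap Γ(X', V') Γ(X, V)) ∘ₗ val)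
  have hv : ∀ (a : Γ(X, V)) (k' : M'), v (a ⊗ₜ k') = a * g.appLE V' V eV (idealSect i'.ker V' k') :=
    fun a k' => rfl
  have hΦ : ∀ w, ∃ k, idealSect i.ker V k = v w ∧ φ.app (i ⁻¹ᵁ V) (L w) = conormalSect i V k := by
    intro w
    induction w using TensorProduct.induction_on with
    | zero => exact ⟨0, by rw [map_zero, map_zero], by rw [map_zero, map_zero, map_zero]⟩
    | tmul a k' =>
      obtain ⟨k, hk⟩ := (Affine.exists_idealSect_iff hV (g.appLE V' V eV (idealSect i'.ker V' k'))).2 (by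
        rw [RingHom.mem_ker]
        refine (hcomm _).symm.trans ?_
        rw [Affine.app_idealSect, map_zero])
      refine ⟨a • k, by rw [hv, Kaehler.Conormal.idealSect_smul, hk], ?_⟩
      show φ.app (i ⁻¹ᵁ V) ((i.app V a : Γ(Z, i ⁻¹ᵁ V)) • μ (conormalSect i' V' k')) = _
      rw [Scheme.Modules.Hom.app_smul, Kaehler.Conormal.conormalSect_smul]
      exact congrArg (i.app V a • ·) (MapApp.app_mu hφ eV eW k' k hk)
    | add x y hx hy =>
      obtain ⟨kx, hx1, hx2⟩ := hx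
      obtain ⟨ky, hy1, hy2⟩ := hy
      exact ⟨kx + ky, by rw [map_add, map_add, hx1, hy1], by rw [map_add, map_add, map_add, hx2, hy2]⟩
  have hrange : ∀ t ∈ RingHom.ker (i.app V).hom, ∃ w, v w = t := by
    intro t ht
    rw [hker] at ht
    refine Submodule.span_induction ?_ ⟨0, map_zero v⟩ ?_ ?_ ht
    · rintro _ ⟨t', ht', rfl⟩
      obtain ⟨k', hk'⟩ := (Affine.exists_idealSect_iff hV' t').2 ht'
      exact ⟨1 ⊗ₜ k', by rw [hv, one_mul, hk']⟩
    · rintro x y - - ⟨a, rfl⟩ ⟨b, rfl⟩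
      exact ⟨a + b, map_add v a b⟩
    · rintro r x - ⟨a, rfl⟩
      exact ⟨r • a, map_smul v r a⟩
  refine ⟨fun y => ?_, fun hflat => ?_⟩
  · obtain ⟨k, rfl⟩ := (Affine.conormalSect_spec hch).1 y
    obtain ⟨w, hw⟩ := hrange _ ((Affine.exists_idealSect_iff hV _).1 ⟨k, rfl⟩)
    obtain ⟨k₁, hk1, hk2⟩ := hΦ w
    exact ⟨L w, hk2.trans (congrArg _ (Kaehler.Conormal.idealSect_injective i V (hk1.trans hw)))⟩
  · haveI : Module.Flat Γ(X', V') Γ(X, V) :=
      RingHom.flat_algebraMap_iff.1 (Scheme.Hom.flat_appLE g hV' hV eV)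
    have hvinj : Function.Injective v :=
      injective_mulMap val fun a b hab => Kaehler.Conormal.idealSect_injective i' V' hab
    rw [injective_iff_map_eq_zero]
    intro y hy
    obtain ⟨w, rfl⟩ : ∃ w, L w = y := by
      letI : Algebra Γ(Z', i' ⁻¹ᵁ V') Γ(Z, i ⁻¹ᵁ V) := (gZ.appLE _ _ eW).hom.toAlgebra
      letI : Module Γ(Z', i' ⁻¹ᵁ V') Γ(N, i ⁻¹ᵁ V) := Module.compHom _ (gZ.appLE _ _ eW).hom
      haveI : IsScalarTower Γ(Z', i' ⁻¹ᵁ V') Γ(Z, i ⁻¹ᵁ V) Γ(N, i ⁻¹ᵁ V) :=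
        IsScalarTower.of_algebraMap_smul fun _ _ => rfl
      have hb := CechRes.PullSec.isBaseChange_mu gZ C' hW' hW eW
      obtain ⟨z, hz⟩ := hb.equiv.surjective y
      suffices h : ∀ z, ∃ w, L w = hb.equiv z by exact (h z).imp fun w hw => hw.trans hz
      intro z
      induction z using TensorProduct.induction_on with
      | zero => exact ⟨0, by rw [map_zero, map_zero]⟩
      | tmul b m =>
        obtain ⟨a, rfl⟩ := hs b
        obtain ⟨k', rfl⟩ := (Affine.conormalSect_spec hch').1 m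
        exact ⟨a ⊗ₜ k', by rw [hb.equiv_tmul]; rfl⟩
      | add p q hp hq =>
        obtain ⟨a, ha⟩ := hp
        obtain ⟨b, hb'⟩ := hq
        exact ⟨a + b, by rw [map_add, map_add, ha, hb']⟩
    obtain ⟨k, hk1, hk2⟩ := hΦ w
    rw [hy, eq_comm, (Affine.conormalSect_spec hch).2, hk1, hker, ← Ideal.map_pow] at hk2
    obtain ⟨w₂, hw₂, hvw⟩ : ∃ w₂, L w₂ = 0 ∧ v w₂ = v w := by
      refine Submodule.span_induction ?_ ⟨0, map_zero L, map_zero v⟩ ?_ ?_ hk2
      · rintro _ ⟨t', ht', rfl⟩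
        obtain ⟨k', hk'⟩ := (Affine.exists_idealSect_iff hV' t').2 (Ideal.pow_le_self two_ne_zero ht')
        refine ⟨1 ⊗ₜ k', ?_, by rw [hv, one_mul, hk']⟩
        rw [show L (1 ⊗ₜ k') = (1 : Γ(X, V)) • ℓ k' from rfl, one_smul]
        show μ (conormalSect i' V' k') = 0
        rw [((Affine.conormalSect_spec hch').2 k').2 (by rw [hk']; exact ht')]
        exact map_zero _
      · rintro x y - - ⟨a, ha, rfl⟩ ⟨b, hb, rfl⟩
        exact ⟨a + b, by rw [map_add, ha, hb, add_zero], map_add v a b⟩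
      · rintro r x - ⟨a, ha, rfl⟩
        exact ⟨r • a, by rw [map_smul, ha, smul_zero], map_smul v r a⟩
    rw [← hvinj hvw, hw₂]

end Groth.Agent.Lib.Conormal92.BaseChange
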