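import Groth.Agent.Lib.Conormal92.Affine
import Groth.Agent.Lib.QCohChart.Free
import Groth.Agent.Lib.Synt92.KRImm
import Groth.Agent.Lib.Synt92.KRIdeal
import Groth.Agent.H54.NLPerfect

/-!
# The conormal sheaf of a Koszul-regular immersion is finite locally free
-/

set_option autoImplicit false
universe u

open CategoryTheory CategoryTheory.Limits AlgebraicGeometry TopologicalSpace Opposite OmegaSh
open Groth.Agent.Lib Groth.Agent.Lib.Synt92

namespace Groth.Agent.Lib.Conormal92.Koszul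

variable {Z X : Scheme.{u}} {i : Z ⟶ X}

theorem finite_projective [QuasiCompact i] {V : X.Opens} (h : Affine.IsChart i V)
    (hkr : LCI.IsKoszulRegularIdeal (RingHom.ker (i.app V).hom)) :
    Module.Finite Γ(Z, i ⁻¹ᵁ V) Γ(Omega.conormal i, i ⁻¹ᵁ V) ∧
      Module.Projective Γ(Z, i ⁻¹ᵁ V) Γ(Omega.conormal i, i ⁻¹ᵁ V) := by
  letI : Algebra Γ(X, V) Γ(Z, i ⁻¹ᵁ V) := (i.app V).hom.toAlgebra
  let E := Algebra.Extension.ofSurjective (Algebra.ofId Γ(X, V) Γ(Z, i ⁻¹ᵁ V)) h.surj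
  obtain ⟨h1, h2⟩ := H54.NLPerfect.finite_projective_cotangent E hkr
  letI := Affine.moduleConormal i V
  obtain ⟨e, -⟩ := Affine.exists_cotangentEquiv h
  let e' : E.Cotangent ≃+ Γ(Omega.conormal i, i ⁻¹ᵁ V) :=
    { toFun := fun c => e c.val
      invFun := fun m => Algebra.Extension.Cotangent.of (e.symm m)
      left_inv := fun c => congrArg Algebra.Extension.Cotangent.of (e.symm_apply_apply c.val)
      right_inv := fun m => e.apply_symm_apply m
      map_add' := fun c c' => map_add e c.val c'.val }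
  have hs : ∀ (b : Γ(Z, i ⁻¹ᵁ V)) (c : E.Cotangent), e' (b • c) = b • e' c := fun b c => by
    obtain ⟨a, rfl⟩ := h.surj b
    have hc : (i.app V a) • c = (a : E.Ring) • c :=
      (algebraMap_smul (A := Γ(Z, i ⁻¹ᵁ V)) (R := E.Ring) (M := E.Cotangent) (a : E.Ring) c)
    rw [hc]
    show e ((a : E.Ring) • c).val = _
    exact (congrArg e (Algebra.Extension.Cotangent.val_smul' (P := E) (a : E.Ring) c)).trans
      (map_smul e a c.val)
  let L : E.Cotangent ≃ₗ[Γ(Z, i ⁻¹ᵁ V)] Γ(Omega.conormal i, i ⁻¹ᵁ V) :=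
    { e' with map_smul' := hs }
  exact ⟨Module.Finite.equiv L, Module.Projective.of_equiv L⟩

theorem isFinLocFree [QuasiCompact i] (hi : RegImm.IsRegularImmersion .koszul i) :
    FlatMod.IsFinLocFree (Omega.conormal i) := by
  haveI := Affine.isQCoh_conormal i
  refine QCohChart.Free.isFinLocFree _ fun z => ?_
  obtain ⟨n, ⟨U, hU⟩, hzU, hcl, rs, -, hrs, hker⟩ := ((KRImm.isRegularImmersion_iff i).1 hi).2 z
  obtain ⟨hW, hs⟩ := KRImm.isAffine_preimage i hU hcl
  have hch : Affine.IsChart i U := ⟨hU, hW, hs⟩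
  refine ⟨i ⁻¹ᵁ U, hW, hzU, finite_projective hch ?_⟩
  exact (KRIdeal.isKoszulRegularIdeal_iff _).2 fun Q _ =>
    ⟨rs.length, haveI := Q.isPrime; KRLoc.genLoc_of_gen (KRLoc.gen_of_list hrs hker) _⟩

end Groth.Agent.Lib.Conormal92.Koszul
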