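import Groth.Agent.Lib.Conormal92.SmoothInj
import Groth.Agent.Lib.Conormal92.Koszul
import Groth.Agent.Lib.Kaehler.ConormalExact
import Groth.Agent.Lib.Kaehler.BaseChange
import Groth.Agent.Lib.Kaehler.Exists
import Groth.Agent.Lib.TensorMod.LocFree
import Groth.Agent.Lib.SmoothLift.Formal
import Groth.Agent.H63.SectionOmega
import Groth.Prelude.Def_KRR
import Groth.Agent.Lib.KRes.KSub
import Groth.Agent.S8656

/-!
# Comparing two factorisations through smooth morphisms by a third one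
-/

set_option autoImplicit false
universe u

open CategoryTheory CategoryTheory.Limits AlgebraicGeometry TopologicalSpace Opposite OmegaSh
open Groth.Agent.Lib

namespace Groth.Agent.Lib.Conormal92.ThirdFact

variable {X Y V V' : Scheme.{u}}

/-- The differentials of the first projection are pulled back from the second factor. -/
theorem exists_universal_proj (g : V ⟶ Y) (g' : V' ⟶ Y) {Ω' : V'.Modules} {d' : Der g' Ω'}
    (hd' : IsUniversal d') (W : (pullback g g').Opens) :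
    ∃ (Ω : W.toScheme.Modules) (d : Der (W.ι ≫ pullback.fst g g') Ω), IsUniversal d ∧
      Nonempty ((Scheme.Modules.pullback (W.ι ≫ pullback.snd g g')).obj Ω' ≅ Ω) := by
  obtain ⟨Ω₀, d₀, h₀⟩ := Kaehler.Exists.exists_isUniversal (pullback.fst g g')
  obtain ⟨c₀, hc₀, -⟩ := Kaehler.Basic.existsUnique_diffCompat (h := pullback.snd g g') (b := g)
    (hsq := pullback.condition) hd' d₀
  haveI := Kaehler.BaseChange.isIso_of_isPullback (IsPullback.of_hasPullback g g').flip hd' h₀ c₀ hc₀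
  obtain ⟨d, hd, -⟩ := Kaehler.OpenImm.exists_isUniversal_pullback W.ι (𝟙 V)
    (f' := W.ι ≫ pullback.fst g g') (Category.comp_id _) h₀
  exact ⟨_, d, hd, ⟨((Scheme.Modules.pullbackComp W.ι (pullback.snd g g')).symm.app Ω') ≪≫
    (Scheme.Modules.pullback W.ι).mapIso (asIso c₀)⟩⟩

/-- For `j` over `i` along a smooth map: `N_j` is an extension of the pulled-back differentials by
`N_i`. -/
theorem exists_extension {W : Scheme.{u}} (p : W ⟶ V) [Smooth p] (i : X ⟶ V) (j : X ⟶ W)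
    [IsImmersion i] [IsImmersion j] [QuasiCompact i] [QuasiCompact j] (hij : j ≫ p = i)
    {Ω : W.Modules} {d : Der p Ω} (hd : IsUniversal d) :
    ∃ (S : ShortComplex X.Modules), S.ShortExact ∧ Nonempty (S.X₁ ≅ Omega.conormal i) ∧
      Nonempty (S.X₂ ≅ Omega.conormal j) ∧
      Nonempty (S.X₃ ≅ (Scheme.Modules.pullback j).obj Ω) := by
  obtain ⟨φ, hφ⟩ := H63.SectionOmega.exists_conormalDiff j d
  obtain ⟨ψ, hψ, -⟩ := Kaehler.Conormal.existsUnique_conormalMap (i := j) (i' := i) (g := p)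
    (gZ := 𝟙 X) (show 𝟙 X ≫ i = j ≫ p by rw [Category.id_comp, hij])
  obtain ⟨w, hex, hepi⟩ := Kaehler.ConormalExact.main hij hd hφ hψ
  haveI : Epi φ := hepi
  haveI : Mono ψ := SmoothInj.mono hij (SmoothLift.Formal.isFormallySmoothHom_of_smooth p) hψ
  exact ⟨ShortComplex.mk ψ φ w, { exact := hex }, ⟨(Scheme.Modules.pullbackId X).app _⟩, ⟨Iso.refl _⟩,
    ⟨Iso.refl _⟩⟩

/-- A third factorisation dominating two given ones. -/
theorem exists_common (g : V ⟶ Y) [Smooth g] (g' : V' ⟶ Y) [Smooth g'] (i : X ⟶ V) [IsClosedImmersion i]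
    (i' : X ⟶ V') [IsClosedImmersion i'] (h : i ≫ g = i' ≫ g') {Ω : V.Modules} {d : Der g Ω}
    (hd : IsUniversal d) {Ω' : V'.Modules} {d' : Der g' Ω'} (hd' : IsUniversal d') (hf : ∀ x : X, Synt.IsKoszulAt (i ≫ g) x) :
    ∃ (N : X.Modules) (S S' : ShortComplex X.Modules), FlatMod.IsFinLocFree N ∧ S.ShortExact ∧ S'.ShortExact ∧
      Nonempty (S.X₁ ≅ Omega.conormal i) ∧ Nonempty (S.X₂ ≅ N) ∧
      Nonempty (S.X₃ ≅ (Scheme.Modules.pullback i').obj Ω') ∧
      Nonempty (S'.X₁ ≅ Omega.conormal i') ∧ Nonempty (S'.X₂ ≅ N) ∧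
      Nonempty (S'.X₃ ≅ (Scheme.Modules.pullback i).obj Ω) := by
  let i'' : X ⟶ pullback g g' := pullback.lift i i' h
  haveI : IsImmersion (i'' ≫ pullback.fst g g') := by rw [pullback.lift_fst]; infer_instance
  haveI : IsImmersion i'' := IsImmersion.of_comp i'' (pullback.fst g g')
  let W := i''.coborderRange
  let j := i''.liftCoborder
  let p := W.ι ≫ pullback.fst g g'
  let p' := W.ι ≫ pullback.snd g g'
  have hp : j ≫ p = i := by
    rw [← Category.assoc, i''.liftCoborder_ι, pullback.lift_fst]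
  have hp' : j ≫ p' = i' := by
    rw [← Category.assoc, i''.liftCoborder_ι, pullback.lift_snd]
  haveI : Smooth p := inferInstance
  haveI : Smooth p' := inferInstance
  obtain ⟨ΩW, dW, hW, ⟨e⟩⟩ := exists_universal_proj g g' hd' W
  obtain ⟨S, hS, ⟨a⟩, ⟨b⟩, ⟨c⟩⟩ := exists_extension p i j hp hW
  -- the symmetric one
  obtain ⟨Ω₀, d₀, h₀⟩ := Kaehler.Exists.exists_isUniversal (pullback.snd g g')
  obtain ⟨c₀, hc₀, -⟩ := Kaehler.Basic.existsUnique_diffCompat (h := pullback.fst g g') (b := g')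
    (hsq := pullback.condition.symm) hd d₀
  haveI := Kaehler.BaseChange.isIso_of_isPullback (IsPullback.of_hasPullback g g') hd h₀ c₀ hc₀
  obtain ⟨dW', hW', -⟩ := Kaehler.OpenImm.exists_isUniversal_pullback W.ι (𝟙 V')
    (f' := p') (Category.comp_id _) h₀
  obtain ⟨S', hS', ⟨a'⟩, ⟨b'⟩, ⟨c'⟩⟩ := exists_extension p' i' j hp' hW'
  have hj : RegImm.IsRegularImmersion .koszul j :=
    Groth.Agent.S8656.result (i ≫ g) hf (p ≫ g) j (by rw [← Category.assoc, hp])
  refine ⟨Omega.conormal j, S, S', Koszul.isFinLocFree hj, hS, hS', ⟨a⟩, ⟨b⟩,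
    ⟨c ≪≫ (Scheme.Modules.pullback j).mapIso e.symm ≪≫ (Scheme.Modules.pullbackComp j p').app Ω' ≪≫
      (Scheme.Modules.pullbackCongr hp').app Ω'⟩, ⟨a'⟩, ⟨b'⟩,
    ⟨c' ≪≫ (Scheme.Modules.pullback j).mapIso ((Scheme.Modules.pullback W.ι).mapIso (asIso c₀).symm ≪≫
        (Scheme.Modules.pullbackComp W.ι (pullback.fst g g')).app Ω) ≪≫
      (Scheme.Modules.pullbackComp j p).app Ω ≪≫ (Scheme.Modules.pullbackCongr hp).app Ω⟩⟩

/-- Classes add in short exact sequences of finite locally free modules, up to isomorphism. -/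
theorem cl_add (S : ShortComplex X.Modules) (hS : S.ShortExact) {A B C : X.Modules} (a : S.X₁ ≅ A)
    (b : S.X₂ ≅ B) (c : S.X₃ ≅ C) (hA : FlatMod.IsFinLocFree A) (hB : FlatMod.IsFinLocFree B)
    (hC : FlatMod.IsFinLocFree C) : KRR.cl X B = KRR.cl X A + KRR.cl X C := by
  let T := ShortComplex.mk (a.inv ≫ S.f ≫ b.hom) (b.inv ≫ S.g ≫ c.hom) (by simp)
  have e : S ≅ T := ShortComplex.isoMk a b c (by simp [T]) (by simp [T])
  exact KRes.KSub.rel (P := KRR.vbP X) (S := T) (ShortComplex.shortExact_of_iso e hS) hA hB hC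

end Groth.Agent.Lib.Conormal92.ThirdFact
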