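import Groth.Agent.Lib.Conormal92.Affine

/-!
# Values of canonical maps of conormal sheaves on charts
-/

set_option autoImplicit false
universe u

open CategoryTheory CategoryTheory.Limits AlgebraicGeometry TopologicalSpace Opposite OmegaSh

namespace Groth.Agent.Lib.Conormal92.MapApp

variable {Z X Z' X' : Scheme.{u}} {i : Z ⟶ X} {i' : Z' ⟶ X'} {g : X ⟶ X'} {gZ : Z ⟶ Z'}

/-- The value on a pulled-back class, on arbitrary smaller opens. -/
theorem app_mu [QuasiCompact i] {φ : (Scheme.Modules.pullback gZ).obj (Omega.conormal i') ⟶ Omega.conormal i}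
    (hφ : IsConormalMap i i' g gZ φ) {V' : X'.Opens} {V : X.Opens} (eV : V ≤ g ⁻¹ᵁ V')
    (eW : i ⁻¹ᵁ V ≤ gZ ⁻¹ᵁ (i' ⁻¹ᵁ V')) (k' : Γ(ClSub.idealMod i'.ker, V'))
    (k : Γ(ClSub.idealMod i.ker, V))
    (h : idealSect i.ker V k = g.appLE V' V eV (idealSect i'.ker V' k')) :
    φ.app (i ⁻¹ᵁ V) (CechRes.PullSec.mu gZ (Omega.conormal i') eW (conormalSect i' V' k')) =
      conormalSect i V k := by
  let k₀ := Kaehler.Conormal.liftSect hφ.1 V' k'
  have hk₀ : k = (ClSub.idealMod i.ker).presheaf.map (homOfLE eV).op k₀ := by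
    apply Kaehler.Conormal.idealSect_injective
    rw [Kaehler.Conormal.idealSect_map, Kaehler.Conormal.idealSect_liftSect, h]
    rfl
  show φ.app (i ⁻¹ᵁ V) (((Scheme.Modules.pullback gZ).obj (Omega.conormal i')).presheaf.map (homOfLE eW).op
    (pullSect gZ (Omega.conormal i') (i' ⁻¹ᵁ V') (conormalSect i' V' k'))) = _
  refine (ConcreteCategory.congr_hom (φ.mapPresheaf.naturality (homOfLE eW).op) _).trans ?_
  show (Omega.conormal i).presheaf.map (homOfLE eW).op (φ.app _ _) = _
  rw [Kaehler.Conormal.app_eq hφ, Kaehler.Conormal.mapSect, hk₀, Kaehler.Conormal.conormalSect_map]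
  exact Kaehler.Affine.resM_resM _ _ _

end Groth.Agent.Lib.Conormal92.MapApp
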