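import Groth.Agent.Lib.Conormal92.MapApp
import Groth.Agent.Lib.QCohChart.Basic
import Groth.Agent.Lib.Kaehler.FSmooth
import Groth.Agent.Lib.Kaehler.ToSect

/-!
# Injectivity of `C_{Z/Y} → C_{Z/X}` for `X` formally smooth over `Y`
-/

set_option autoImplicit false
universe u

open CategoryTheory CategoryTheory.Limits AlgebraicGeometry TopologicalSpace Opposite OmegaSh
open Groth.Agent.Lib

namespace Groth.Agent.Lib.Conormal92.SmoothInj

/-- Lifting the quotient map along `R/J² → R/J` splits `J/J² → I/I²`. -/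
theorem mem_sq_of_map_mem_sq {R P B : Type u} [CommRing R] [CommRing P] [CommRing B] [Algebra R P]
    [Algebra.FormallySmooth R P] [Algebra R B] (π : P →ₐ[R] B)
    (hs : Function.Surjective (algebraMap R B)) {t : R}
    (ht2 : algebraMap R P t ∈ RingHom.ker π.toRingHom ^ 2) :
    t ∈ RingHom.ker (algebraMap R B) ^ 2 := by
  let J := RingHom.ker (algebraMap R B)
  let g : (R ⧸ J ^ 2) →ₐ[R] B := Ideal.Quotient.liftₐ (J ^ 2) (Algebra.ofId R B) fun a ha =>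
    RingHom.mem_ker.1 (Ideal.pow_le_self two_ne_zero ha)
  have hg : Function.Surjective g := fun b => by
    obtain ⟨a, rfl⟩ := hs b
    exact ⟨Ideal.Quotient.mk _ a, rfl⟩
  have hk : RingHom.ker g.toRingHom ≤ J.map (Ideal.Quotient.mk (J ^ 2)) := fun x hx => by
    obtain ⟨a, rfl⟩ := Ideal.Quotient.mk_surjective x
    exact Ideal.mem_map_of_mem _ hx
  have h0 : RingHom.ker g.toRingHom ^ 2 = ⊥ := le_bot_iff.1 (le_trans (Ideal.pow_right_mono hk 2)
    (le_of_eq (by rw [← Ideal.map_pow, Ideal.map_quotient_self])))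
  let ρ := Algebra.FormallySmooth.liftOfSurjective π g hg ⟨2, h0⟩
  have hρ : g.comp ρ = π := Algebra.FormallySmooth.comp_liftOfSurjective _ _ hg ⟨2, h0⟩
  have hle : (RingHom.ker π.toRingHom).map ρ.toRingHom ≤ RingHom.ker g.toRingHom := by
    refine Ideal.map_le_iff_le_comap.2 fun a ha => ?_
    show g (ρ a) = 0
    rw [← AlgHom.comp_apply, hρ]
    exact ha
  have h1 : ρ (algebraMap R P t) ∈ RingHom.ker g.toRingHom ^ 2 := by
    refine Ideal.pow_right_mono hle 2 ?_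
    rw [← Ideal.map_pow]
    exact Ideal.mem_map_of_mem _ ht2
  rw [h0, Submodule.mem_bot, AlgHom.commutes] at h1
  exact Ideal.Quotient.eq_zero_iff_mem.1 h1

variable {Z X Y : Scheme.{u}} {i : Z ⟶ X} {j : Z ⟶ Y} {p : X ⟶ Y}
  {ψ : (Scheme.Modules.pullback (𝟙 Z)).obj (Omega.conormal j) ⟶ Omega.conormal i}

theorem injective_app [QuasiCompact i] [QuasiCompact j] (hij : i ≫ p = j)
    (hψ : IsConormalMap i j p (𝟙 Z) ψ) {U : Y.Opens} {V : X.Opens} (hU : Affine.IsChart j U)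
    (hV : Affine.IsChart i V) (eV : V ≤ p ⁻¹ᵁ U) (hW : i ⁻¹ᵁ V = j ⁻¹ᵁ U)
    (hfs : (p.appLE U V eV).hom.FormallySmooth) : Function.Injective (ψ.app (i ⁻¹ᵁ V)) := by
  let C := Omega.conormal j
  have eW : i ⁻¹ᵁ V ≤ (𝟙 Z : Z ⟶ Z) ⁻¹ᵁ (j ⁻¹ᵁ U) := le_of_eq hW
  rw [injective_iff_map_eq_zero]
  intro y hy
  obtain ⟨k, rfl⟩ : ∃ k, CechRes.PullSec.mu (𝟙 Z) C eW (conormalSect j U k) = y := by
    haveI : IsIso (homOfLE eW).op := by
      have : IsIso (homOfLE eW) := ⟨homOfLE (le_of_eq hW.symm), rfl, rfl⟩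
      infer_instance
    obtain ⟨w, rfl⟩ := (ConcreteCategory.bijective_of_isIso
      (((Scheme.Modules.pullback (𝟙 Z)).obj C).presheaf.map (homOfLE eW).op)).2 y
    obtain ⟨c, rfl⟩ := (Kaehler.ToSect.bijective_pullSect (𝟙 Z) C (j ⁻¹ᵁ U) (fun z _ => ⟨z, rfl⟩)).2 w
    obtain ⟨k, rfl⟩ := (Affine.conormalSect_spec hU).1 c
    exact ⟨k, rfl⟩
  letI : Algebra Γ(Y, U) Γ(X, V) := (p.appLE U V eV).hom.toAlgebra
  letI : Algebra Γ(Y, U) Γ(Z, i ⁻¹ᵁ V) := ((p.appLE U V eV) ≫ i.app V).hom.toAlgebra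
  haveI : Algebra.FormallySmooth Γ(Y, U) Γ(X, V) := hfs
  let π : Γ(X, V) →ₐ[Γ(Y, U)] Γ(Z, i ⁻¹ᵁ V) := { toRingHom := (i.app V).hom, commutes' := fun _ => rfl }
  have hcomm : algebraMap Γ(Y, U) Γ(Z, i ⁻¹ᵁ V) =
      ((j.app U) ≫ Z.presheaf.map (homOfLE (le_of_eq hW)).op).hom := by
    subst hij
    show ((p.appLE U V eV) ≫ i.app V).hom = _
    rw [Scheme.Hom.app_eq_appLE, Scheme.Hom.app_eq_appLE, Scheme.Hom.appLE_comp_appLE,
      Scheme.Hom.appLE_map]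
  haveI : IsIso (homOfLE (le_of_eq hW)).op := by
    have : IsIso (homOfLE (le_of_eq hW)) := ⟨homOfLE (le_of_eq hW.symm), rfl, rfl⟩
    infer_instance
  have hres := ConcreteCategory.bijective_of_isIso (Z.presheaf.map (homOfLE (le_of_eq hW)).op)
  have hs : Function.Surjective (algebraMap Γ(Y, U) Γ(Z, i ⁻¹ᵁ V)) := by
    rw [hcomm]; exact hres.2.comp hU.surj
  have hker : RingHom.ker (algebraMap Γ(Y, U) Γ(Z, i ⁻¹ᵁ V)) = RingHom.ker (j.app U).hom := by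
    ext a
    rw [RingHom.mem_ker, RingHom.mem_ker, hcomm]
    exact ⟨fun h => hres.1 (h.trans (map_zero _).symm), fun h => by
      show Z.presheaf.map _ (j.app U a) = 0
      rw [show j.app U a = 0 from h, map_zero]⟩
  obtain ⟨k', hk'⟩ := (Affine.exists_idealSect_iff hV.affine (p.appLE U V eV (idealSect j.ker U k))).2 (by
    have h0 : algebraMap Γ(Y, U) Γ(Z, i ⁻¹ᵁ V) (idealSect j.ker U k) = 0 := by
      rw [← RingHom.mem_ker, hker]
      exact (Affine.exists_idealSect_iff hU.affine _).1 ⟨k, rfl⟩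
    exact h0)
  rw [MapApp.app_mu hψ eV eW k k' hk', (Affine.conormalSect_spec hV).2, hk'] at hy
  have h2 := mem_sq_of_map_mem_sq π hs (t := idealSect j.ker U k) hy
  rw [hker] at h2
  rw [((Affine.conormalSect_spec hU).2 k).2 h2]
  exact map_zero _

theorem mono [IsImmersion i] [IsImmersion j] [QuasiCompact i] [QuasiCompact j] (hij : i ≫ p = j)
    (hp : MoreMor.IsFormallySmoothHom p) (hψ : IsConormalMap i j p (𝟙 Z) ψ) : Mono ψ := by
  haveI := Affine.isQCoh_conormal i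
  haveI := Affine.isQCoh_conormal j
  haveI : ((Scheme.Modules.pullback (𝟙 Z)).obj (Omega.conormal j)).IsQuasicoherent :=
    QCoh.Pullback.isQCoh_pullback _ _
  refine QCohChart.Basic.mono_of_charts ψ fun z => ?_
  obtain ⟨U₀, hU₀, hzU₀, hU₀c⟩ := Affine.exists_chart j z (W := j.coborderRange)
    (subset_coborder ⟨z, rfl⟩)
  have hz : i z ∈ p ⁻¹ᵁ U₀ := by
    show (i ≫ p) z ∈ U₀
    rw [hij]
    exact hzU₀
  obtain ⟨V₀, hV₀, hzV₀, hV₀p⟩ := Affine.exists_chart i z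
    (W := i.coborderRange ⊓ p ⁻¹ᵁ U₀) ⟨subset_coborder ⟨z, rfl⟩, hz⟩
  obtain ⟨c, hcW, hzc⟩ := hU₀.affine_preimage.exists_basicOpen_le (V := i ⁻¹ᵁ V₀) ⟨z, hzV₀⟩ hzU₀
  obtain ⟨a, rfl⟩ := hU₀.surj c
  rw [← Scheme.preimage_basicOpen] at hcW hzc
  let U := Y.basicOpen a
  let V := V₀ ⊓ p ⁻¹ᵁ U
  have hV₀U : V₀ ≤ p ⁻¹ᵁ U₀ := fun x hx => (hV₀p hx).2
  have hV : IsAffineOpen V := by
    have : V = X.basicOpen ((p.appLE U₀ V₀ hV₀U).hom a) := by rw [Scheme.basicOpen_appLE]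
    rw [this]; exact hV₀.affine.basicOpen _
  have hW : i ⁻¹ᵁ V = j ⁻¹ᵁ U := by
    subst hij
    exact le_antisymm (fun x hx => hx.2) (fun x hx => ⟨hcW hx, hx⟩)
  have hU : IsAffineOpen U := hU₀.affine.basicOpen a
  have hcU := Affine.isChart_of_le_coborder j hU ((Y.basicOpen_le a).trans hU₀c)
  have hcV := Affine.isChart_of_le_coborder i hV (fun x hx => (hV₀p hx.1).1)
  have eV : V ≤ p ⁻¹ᵁ U := inf_le_right
  exact ⟨i ⁻¹ᵁ V, hcV.affine_preimage, hW.ge hzc, injective_app hij hψ hcU hcV eV hW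
    (Kaehler.FSmooth.formallySmooth_appLE hp hU hV eV)⟩

end Groth.Agent.Lib.Conormal92.SmoothInj
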