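import Groth.Agent.Lib.Conormal92.Affine
import Groth.Agent.Lib.StalkLoc.Basic
import Groth.Agent.Lib.Lim.Approx.Integral
import Mathlib.RingTheory.Nakayama
import Mathlib.AlgebraicGeometry.Morphisms.IsIso

/-!
# The conormal stalk vanishes exactly where the immersion is open
-/

set_option autoImplicit false
set_option linter.style.haveILetI false
universe u

open CategoryTheory CategoryTheory.Limits AlgebraicGeometry TopologicalSpace Opposite OmegaSh

namespace Groth.Agent.Lib.Conormal92.StalkZero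

open Affine

variable {Z X : Scheme.{u}} (i : Z ⟶ X)

/-- A finitely generated ideal with `I_p = I_p ^ 2`, inside `p`, is killed by an element outside `p`. -/
theorem exists_kill [QuasiCompact i] {V : X.Opens} (hV : IsAffineOpen V) {z : Z} (hz : i z ∈ V)
    (hfg : (RingHom.ker (i.app V).hom).FG)
    (h : ∀ k ∈ RingHom.ker (i.app V).hom,
      ∃ a : Γ(X, V), i z ∈ X.basicOpen a ∧ a * k ∈ (RingHom.ker (i.app V).hom) ^ 2) :
    ∃ c : Γ(X, V), i z ∈ X.basicOpen c ∧ ∀ k ∈ RingHom.ker (i.app V).hom, c * k = 0 := by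
  classical
  set I := RingHom.ker (i.app V).hom with hI
  set φ := (X.presheaf.germ V (i z) hz).hom with hφ
  have hunit : ∀ a : Γ(X, V), IsUnit (φ a) ↔ i z ∈ X.basicOpen a := fun a =>
    (Scheme.mem_basicOpen X a (i z) hz).symm
  have hle : I.map φ ≤ IsLocalRing.maximalIdeal (X.presheaf.stalk (i z)) := by
    rw [Ideal.map_le_iff_le_comap]
    intro a ha hu
    have h1 : z ∈ i ⁻¹ᵁ X.basicOpen a := (hunit a).1 hu
    rw [Scheme.preimage_basicOpen, show i.app V a = 0 from ha, Scheme.basicOpen_zero] at h1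
    exact h1
  have hsq : I.map φ ≤ IsLocalRing.maximalIdeal (X.presheaf.stalk (i z)) • I.map φ := by
    refine le_trans ?_ (Submodule.smul_mono_left hle)
    rw [smul_eq_mul, ← Ideal.map_mul, Ideal.map_le_iff_le_comap]
    intro k hk
    obtain ⟨a, ha, hak⟩ := h k hk
    rw [pow_two] at hak
    have := Ideal.mem_map_of_mem φ hak
    rw [map_mul] at this
    exact ((I * I).map φ).unit_mul_mem_iff_mem ((hunit a).2 ha) |>.1 this
  have hbot : I.map φ = ⊥ := Submodule.eq_bot_of_le_smul_of_le_jacobson_bot _ _ (hfg.map φ) hsq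
    (IsLocalRing.maximalIdeal_le_jacobson ⊥)
  have hone : ∀ k ∈ I, ∃ c : Γ(X, V), i z ∈ X.basicOpen c ∧ c * k = 0 := by
    intro k hk
    have h0 : φ k = 0 := by
      simpa [hbot] using Ideal.mem_map_of_mem φ hk
    letI := TopCat.Presheaf.algebra_section_stalk X.presheaf (⟨i z, hz⟩ : V)
    haveI := hV.isLocalization_stalk ⟨i z, hz⟩
    obtain ⟨⟨c, hc⟩, hck⟩ := (IsLocalization.map_eq_zero_iff
      (hV.primeIdealOf ⟨i z, hz⟩).asIdeal.primeCompl (X.presheaf.stalk (i z)) k).1 h0
    refine ⟨c, (hunit c).1 ?_, hck⟩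
    exact IsLocalization.map_units (X.presheaf.stalk (i z)) (⟨c, hc⟩ :
      (hV.primeIdealOf ⟨i z, hz⟩).asIdeal.primeCompl)
  obtain ⟨s, hs⟩ := hfg
  have hsI : ∀ k ∈ s, k ∈ I := fun k hk => hs ▸ Submodule.subset_span hk
  choose c hc hck using fun k : s => hone k.1 (hsI k.1 k.2)
  refine ⟨∏ k : s, c k, (hunit _).1 ?_, fun k hk => ?_⟩
  · rw [map_prod, IsUnit.prod_iff]
    exact fun k _ => (hunit _).2 (hc k)
  · rw [← hs] at hk
    induction hk using Submodule.span_induction with
    | mem x hx =>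
      obtain ⟨d, hd⟩ := Finset.dvd_prod_of_mem c (Finset.mem_univ (⟨x, hx⟩ : s))
      rw [hd, mul_right_comm, hck ⟨x, hx⟩, zero_mul]
    | zero => rw [mul_zero]
    | add a b _ _ ha hb => rw [mul_add, ha, hb, add_zero]
    | smul r a _ ha => rw [smul_eq_mul, mul_left_comm, ha, mul_zero]

theorem fg_ker [QuasiCompact i] [LocallyOfFinitePresentation i] {V : X.Opens} (h : IsChart i V) :
    (RingHom.ker (i.app V).hom).FG := by
  have hf := HasRingHomProperty.appLE @LocallyOfFinitePresentation i inferInstance ⟨V, h.affine⟩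
    ⟨i ⁻¹ᵁ V, h.affine_preimage⟩ le_rfl
  rw [← Scheme.Hom.app_eq_appLE] at hf
  exact Lim.Approx.Integral.ker_fg (i.app V).hom h.surj hf

theorem iff_subsingleton_stalk [IsImmersion i] [QuasiCompact i] [LocallyOfFinitePresentation i]
    (z : Z) :
    (∃ U : Z.Opens, z ∈ U ∧ IsOpenImmersion (U.ι ≫ i)) ↔
      Subsingleton ((Omega.conormal i).presheaf.stalk z) := by
  haveI := isQCoh_conormal i
  constructor
  · rintro ⟨U, hzU, hopen⟩
    have hmem : i z ∈ (U.ι ≫ i).opensRange := ⟨⟨z, hzU⟩, rfl⟩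
    obtain ⟨V, hch, hzV, hVU⟩ := exists_chart i z hmem
    have hpre : i ⁻¹ᵁ V ≤ U := by
      intro w hw
      obtain ⟨⟨w', hw'⟩, e⟩ := hVU hw
      have e' : i w' = i w := e
      exact i.isEmbedding.injective e' ▸ hw'
    haveI := (U.ι ≫ i).isIso_app V hVU
    have hinj : Function.Injective (i.app V) := by
      have hb := (ConcreteCategory.bijective_of_isIso ((U.ι ≫ i).app V)).1
      rw [Scheme.Hom.comp_app] at hb
      exact Function.Injective.of_comp hb
    have hker : RingHom.ker (i.app V).hom = ⊥ :=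
      (RingHom.injective_iff_ker_eq_bot _).1 hinj
    have hzero : ∀ t : Γ(Omega.conormal i, i ⁻¹ᵁ V), t = 0 := fun t => by
      obtain ⟨k, rfl⟩ := (conormalSect_spec hch).1 t
      refine ((conormalSect_spec hch).2 k).2 ?_
      have hk := (exists_idealSect_iff hch.affine _).1 ⟨k, rfl⟩
      rw [hker] at hk ⊢
      rw [Ideal.mem_bot] at hk
      rw [hk]; exact zero_mem _
    refine subsingleton_of_forall_eq 0 fun v => ?_
    obtain ⟨b, t, hb, e⟩ := StalkLoc.Basic.exists_smul_eq_germ (M := Omega.conormal i)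
      hch.affine_preimage (x := z) hzV v
    rw [hzero t, map_zero] at e
    exact (IsUnit.smul_eq_zero ((Scheme.mem_basicOpen Z b z hzV).1 hb)).1 e
  · intro hsub
    obtain ⟨V, hch, hzV, hVW⟩ := exists_chart i z (W := i.coborderRange) (subset_coborder ⟨z, rfl⟩)
    have h : ∀ k ∈ RingHom.ker (i.app V).hom,
        ∃ a : Γ(X, V), i z ∈ X.basicOpen a ∧ a * k ∈ (RingHom.ker (i.app V).hom) ^ 2 := by
      intro t ht
      obtain ⟨k, rfl⟩ := (exists_idealSect_iff hch.affine t).2 ht
      obtain ⟨b, hb, hb0⟩ := (StalkLoc.Basic.germ_eq_zero_iff (M := Omega.conormal i)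
        hch.affine_preimage (x := z) hzV (conormalSect i V k)).1 (Subsingleton.elim _ _)
      obtain ⟨a, rfl⟩ := hch.surj b
      rw [← Scheme.preimage_basicOpen] at hb
      refine ⟨a, hb, ?_⟩
      have e := ((conormalSect_spec hch).2 (a • k)).1
        ((Kaehler.Conormal.conormalSect_smul i V a k).trans hb0)
      rwa [Kaehler.Conormal.idealSect_smul] at e
    obtain ⟨c, hc, hck⟩ := exists_kill i hch.affine hzV (fg_ker i hch) h
    have hcV : X.basicOpen c ≤ V := X.basicOpen_le c
    have hW : IsChart i (X.basicOpen c) :=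
      isChart_of_le_coborder i (hch.affine.basicOpen c) (hcV.trans hVW)
    have hker : RingHom.ker (i.app (X.basicOpen c)).hom = ⊥ := by
      have e := i.ker.map_ideal_basicOpen ⟨V, hch.affine⟩ c
      rw [Scheme.Hom.ker_apply, Scheme.Hom.ker_apply] at e
      refine e.symm.trans (le_bot_iff.1 ?_)
      rw [Ideal.map_le_iff_le_comap]
      intro k hk
      have h1 : (X.presheaf.map (homOfLE hcV).op).hom (c * k) = 0 := by
        rw [hck k hk, map_zero]
      rw [map_mul] at h1
      rw [Ideal.mem_comap, Ideal.mem_bot]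
      exact (RingedSpace.isUnit_res_basicOpen X.toSheafedSpace c).mul_right_eq_zero.1 h1
    have hiso : IsIso (i.app (X.basicOpen c)) :=
      (ConcreteCategory.isIso_iff_bijective _).2
        ⟨(RingHom.injective_iff_ker_eq_bot _).2 hker, hW.surj⟩
    haveI : IsAffine (X.basicOpen c) := hW.affine
    haveI : IsIso (i ∣_ X.basicOpen c) := by
      haveI : IsAffine (i ⁻¹ᵁ X.basicOpen c) := hW.affine_preimage
      have : ∀ W', W' = X.basicOpen c → IsIso (i.app W') := by rintro _ rfl; exact hiso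
      haveI : IsIso (i ∣_ X.basicOpen c).appTop := by
        rw [Scheme.Hom.appTop, morphismRestrict_app]
        exact @IsIso.comp_isIso _ _ _ _ _ _ _ (this _ (by simp)) (Functor.map_isIso _ _)
      exact ((MorphismProperty.isomorphisms Scheme.{u}).arrow_mk_iso_iff
        (arrowIsoSpecΓOfIsAffine (i ∣_ X.basicOpen c))).2
        (inferInstanceAs (IsIso (Spec.map (i ∣_ X.basicOpen c).appTop)))
    refine ⟨i ⁻¹ᵁ X.basicOpen c, hc, ?_⟩
    rw [← morphismRestrict_ι]
    infer_instance

end Groth.Agent.Lib.Conormal92.StalkZero
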