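import Groth.Agent.Lib.Conormal92.ThirdFact
import Groth.Agent.Lib.Conormal92.SmoothRank
import Groth.Agent.Lib.Kaehler.LocFree

/-!
# The virtual relative dimension of a local complete intersection morphism
-/

set_option autoImplicit false
universe u

open CategoryTheory CategoryTheory.Limits AlgebraicGeometry TopologicalSpace Opposite OmegaSh
open Groth.Agent.Lib

namespace Groth.Agent.Lib.Conormal92.VirtDim

variable {X : Scheme.{u}}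

/-- `M` is free of rank `a` near `x`. -/
def RankAt (a : ℕ) (M : X.Modules) (x : X) : Prop :=
  ∃ U : X.Opens, x ∈ U ∧ Nonempty (M.restrict U.ι ≅ FlatMod.freeMod (↑U) a)

theorem RankAt.of_restrict {a : ℕ} {M : X.Modules} {x : X} (U : X.Opens) (hx : x ∈ U)
    (h : FlatMod.IsFinLocFreeOfRank a ((Scheme.Modules.restrictFunctor U.ι).obj M)) : RankAt a M x := by
  obtain ⟨O, hxO, ⟨i⟩⟩ := h ⟨x, hx⟩
  obtain ⟨e⟩ := Kaehler.LocFree.free_nhd_of_chart (M := M) (O.ι ≫ U.ι)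
    ((Scheme.Modules.restrictFunctorComp O.ι U.ι).app M ≪≫ i)
  exact ⟨(O.ι ≫ U.ι).opensRange, ⟨⟨⟨x, hx⟩, hxO⟩, rfl⟩, ⟨e⟩⟩

theorem RankAt.of_iso {a : ℕ} {M N : X.Modules} {x : X} (e : M ≅ N) (h : RankAt a M x) : RankAt a N x := by
  obtain ⟨U, hx, ⟨i⟩⟩ := h
  exact ⟨U, hx, ⟨(Scheme.Modules.restrictFunctor U.ι).mapIso e.symm ≪≫ i⟩⟩

theorem RankAt.add (S : ShortComplex X.Modules) (hS : S.ShortExact) {a b c : ℕ} {x : X}
    (h₁ : RankAt a S.X₁ x) (h₂ : RankAt b S.X₂ x) (h₃ : RankAt c S.X₃ x) : b = a + c := by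
  obtain ⟨U₁, x₁, ⟨i₁⟩⟩ := h₁
  obtain ⟨U₂, x₂, ⟨i₂⟩⟩ := h₂
  obtain ⟨U₃, x₃, ⟨i₃⟩⟩ := h₃
  exact SmoothRank.rank_eq_add S hS i₁ i₂ i₃ x₁ x₂ x₃

theorem exists_rankAt {M : X.Modules} (h : FlatMod.IsFinLocFree M) (x : X) : ∃ a, RankAt a M x := by
  obtain ⟨U, n, hx, hi⟩ := h x
  exact ⟨n, U, hx, hi⟩

variable {Y V V' : Scheme.{u}}

/-- Independence of the virtual dimension of the factorisation. -/
theorem add_eq_add (g : V ⟶ Y) [Smooth g] (g' : V' ⟶ Y) [Smooth g'] (i : X ⟶ V) [IsClosedImmersion i]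
    (i' : X ⟶ V') [IsClosedImmersion i'] (h : i ≫ g = i' ≫ g') {Ω : V.Modules} {d : Der g Ω}
    (hd : IsUniversal d) {Ω' : V'.Modules} {d' : Der g' Ω'} (hd' : IsUniversal d')
    (hf : ∀ x : X, Synt.IsKoszulAt (i ≫ g) x) (x : X) {a b a' b' : ℕ}
    (ha : RankAt a ((Scheme.Modules.pullback i).obj Ω) x) (hb : RankAt b (Omega.conormal i) x)
    (ha' : RankAt a' ((Scheme.Modules.pullback i').obj Ω') x) (hb' : RankAt b' (Omega.conormal i') x) :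
    b + a' = b' + a := by
  obtain ⟨N, S, S', hN, hS, hS', ⟨e₁⟩, ⟨e₂⟩, ⟨e₃⟩, ⟨e₁'⟩, ⟨e₂'⟩, ⟨e₃'⟩⟩ :=
    ThirdFact.exists_common g g' i i' h hd hd' hf
  obtain ⟨n, hn⟩ := exists_rankAt hN x
  rw [← RankAt.add S hS (hb.of_iso e₁.symm) (hn.of_iso e₂.symm) (ha'.of_iso e₃.symm),
    ← RankAt.add S' hS' (hb'.of_iso e₁'.symm) (hn.of_iso e₂'.symm) (ha.of_iso e₃'.symm)]

end Groth.Agent.Lib.Conormal92.VirtDim
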