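import Groth.Agent.Lib.Conormal92.VirtDim
import Groth.Agent.Lib.Conormal92.Inject
import Groth.Agent.S9372
import Groth.Agent.S8661

/-!
# Additivity of the virtual relative dimension
-/

set_option autoImplicit false
universe u

open CategoryTheory CategoryTheory.Limits AlgebraicGeometry TopologicalSpace Opposite OmegaSh
open Groth.Agent.Lib

namespace Groth.Agent.Lib.Conormal92.VirtDimComp

/-- Differentials of a projection restricted to an open subscheme. -/
theorem exists_universal_baseChange {A B A' B' : Scheme.{u}} {f : A ⟶ B} {g : B' ⟶ B} {g' : A' ⟶ A}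
    {f' : A' ⟶ B'} (H : IsPullback g' f' f g) {Ω : A.Modules} {d : Der f Ω} (hd : IsUniversal d)
    (W : A'.Opens) :
    ∃ (Ω' : W.toScheme.Modules) (d' : Der (W.ι ≫ f') Ω'), IsUniversal d' ∧
      Nonempty (Ω' ≅ (Scheme.Modules.pullback (W.ι ≫ g')).obj Ω) := by
  obtain ⟨Ω₀, d₀, h₀⟩ := Kaehler.Exists.exists_isUniversal f'
  obtain ⟨c₀, hc₀, -⟩ := Kaehler.Basic.existsUnique_diffCompat (h := g') (b := g) (hsq := H.w.symm) hd d₀
  haveI := Kaehler.BaseChange.isIso_of_isPullback H hd h₀ c₀ hc₀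
  obtain ⟨d', hd', -⟩ := Kaehler.OpenImm.exists_isUniversal_pullback W.ι (𝟙 B')
    (f' := W.ι ≫ f') (Category.comp_id _) h₀
  exact ⟨_, d', hd', ⟨(Scheme.Modules.pullback W.ι).mapIso (asIso c₀).symm ≪≫
    (Scheme.Modules.pullbackComp W.ι g').app Ω⟩⟩

variable {X : Scheme.{u}}

theorem RankAt.pullback {Y : Scheme.{u}} (f : X ⟶ Y) {a : ℕ} {M : Y.Modules} {x : X}
    (h : VirtDim.RankAt a M (f x)) : VirtDim.RankAt a ((Scheme.Modules.pullback f).obj M) x := by
  obtain ⟨U, hx, ⟨i⟩⟩ := h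
  exact ⟨f ⁻¹ᵁ U, hx, TensorMod.LocFree.pullback_iso_of_restrict_iso f i⟩

/-- The virtual relative dimensions add under composition. -/
theorem add_eq {Y Z V W T : Scheme.{u}} {f : X ⟶ Y} {g : Y ⟶ Z}
    (hf : ∀ x : X, Synt.IsKoszulAt f x) (hg : ∀ y : Y, Synt.IsKoszulAt g y)
    (gf : V ⟶ Y) [Smooth gf] (jf : X ⟶ V) [IsClosedImmersion jf] (hjf : jf ≫ gf = f)
    (gg : W ⟶ Z) [Smooth gg] (jg : Y ⟶ W) [IsClosedImmersion jg] (hjg : jg ≫ gg = g)
    (gh : T ⟶ Z) [Smooth gh] (jh : X ⟶ T) [IsClosedImmersion jh] (hjh : jh ≫ gh = f ≫ g)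
    {Ωf : V.Modules} {df : Der gf Ωf} (hdf : IsUniversal df)
    {Ωg : W.Modules} {dg : Der gg Ωg} (hdg : IsUniversal dg)
    {Ωh : T.Modules} {dh : Der gh Ωh} (hdh : IsUniversal dh)
    (x : X) {af bf ag bg ah bh : ℕ}
    (haf : VirtDim.RankAt af ((Scheme.Modules.pullback jf).obj Ωf) x)
    (hbf : VirtDim.RankAt bf (Omega.conormal jf) x)
    (hag : VirtDim.RankAt ag ((Scheme.Modules.pullback jg).obj Ωg) (f x))
    (hbg : VirtDim.RankAt bg (Omega.conormal jg) (f x))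
    (hah : VirtDim.RankAt ah ((Scheme.Modules.pullback jh).obj Ωh) x)
    (hbh : VirtDim.RankAt bh (Omega.conormal jh) x) :
    bf + ah + bg = bh + ag + af := by
  have sq : (f ≫ jg) ≫ gg = jh ≫ gh := by rw [Category.assoc, hjg, hjh]
  let P := pullback gg gh
  let c : X ⟶ P := pullback.lift (f ≫ jg) jh sq
  haveI : IsImmersion (c ≫ pullback.snd gg gh) := by rw [pullback.lift_snd]; infer_instance
  haveI : IsImmersion c := IsImmersion.of_comp c (pullback.snd gg gh)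
  let Q := pullback jg (pullback.fst gg gh)
  let m : Q ⟶ P := pullback.snd jg (pullback.fst gg gh)
  let qY : Q ⟶ Y := pullback.fst jg (pullback.fst gg gh)
  let k : X ⟶ Q := pullback.lift f c (pullback.lift_fst _ _ sq).symm
  have hkm : k ≫ m = c := pullback.lift_snd _ _ _
  have hkq : k ≫ qY = f := pullback.lift_fst _ _ _
  let W₂ := c.coborderRange
  let c' := c.liftCoborder
  let W₁ : Q.Opens := m ⁻¹ᵁ W₂
  let m' : W₁.toScheme ⟶ W₂.toScheme := m ∣_ W₂
  have hk : Set.range k ⊆ Set.range W₁.ι := by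
    rintro _ ⟨y, rfl⟩
    rw [Scheme.Opens.range_ι]
    show m (k y) ∈ W₂
    rw [← Scheme.Hom.comp_apply, hkm]
    exact subset_coborder ⟨y, rfl⟩
  let k' : X ⟶ W₁.toScheme := IsOpenImmersion.lift W₁.ι k hk
  have hk' : k' ≫ W₁.ι = k := IsOpenImmersion.lift_fac _ _ _
  have hk'm : k' ≫ m' = c' := by
    rw [← cancel_mono W₂.ι, Category.assoc, morphismRestrict_ι, ← Category.assoc, hk', hkm,
      c.liftCoborder_ι]
  haveI : IsClosedImmersion (k' ≫ m') := by rw [hk'm]; infer_instance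
  haveI : IsClosedImmersion k' := IsClosedImmersion.of_comp k' m'
  -- the factorisation of `f` through `Q`
  have HQ : IsPullback qY (m ≫ pullback.snd gg gh) g gh := by
    have := (IsPullback.of_hasPullback jg (pullback.fst gg gh)).paste_vert (IsPullback.of_hasPullback gg gh)
    rwa [hjg] at this
  obtain ⟨Ω₁, d₁, hd₁, ⟨e₁⟩⟩ := exists_universal_baseChange HQ.flip hdh W₁
  haveI : Smooth qY := MorphismProperty.pullback_fst _ _ inferInstance
  haveI : Smooth (W₁.ι ≫ qY) := inferInstance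
  have hkq' : k' ≫ W₁.ι ≫ qY = f := by rw [← Category.assoc, hk', hkq]
  have hfk : ∀ y : X, Synt.IsKoszulAt (jf ≫ gf) y := by rw [hjf]; exact hf
  have hKR : RegImm.IsRegularImmersion .koszul k' :=
    Groth.Agent.S8656.result f hf (W₁.ι ≫ qY) k' hkq'
  obtain ⟨b₁, hb₁⟩ := VirtDim.exists_rankAt (Koszul.isFinLocFree hKR) x
  have h1 : bf + ah = b₁ + af := VirtDim.add_eq_add gf (W₁.ι ≫ qY) jf k' (hjf.trans hkq'.symm) hdf hd₁
    hfk x haf hbf ((hah.of_iso ((Scheme.Modules.pullbackCongr (show k' ≫ W₁.ι ≫ m ≫ pullback.snd gg gh = jh by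
      rw [← Category.assoc, hk', ← Category.assoc, hkm, pullback.lift_snd])).app Ωh).symm).of_iso
      (((Scheme.Modules.pullbackComp k' (W₁.ι ≫ m ≫ pullback.snd gg gh)).app Ωh).symm ≪≫
        (Scheme.Modules.pullback k').mapIso e₁.symm)) hb₁
  -- the extension over `T`
  obtain ⟨Ω₂, d₂, hd₂, ⟨e₂⟩⟩ := exists_universal_baseChange (IsPullback.of_hasPullback gg gh) hdg W₂
  haveI : Smooth (W₂.ι ≫ pullback.snd gg gh) := inferInstance
  obtain ⟨S, hS, ⟨a⟩, ⟨b⟩, ⟨c₃⟩⟩ := ThirdFact.exists_extension (W₂.ι ≫ pullback.snd gg gh) jh (k' ≫ m')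
    (by rw [hk'm, ← Category.assoc, c.liftCoborder_ι, pullback.lift_snd]) hd₂
  have hag' : VirtDim.RankAt ag ((Scheme.Modules.pullback f).obj ((Scheme.Modules.pullback jg).obj Ωg)) x :=
    RankAt.pullback f hag
  have hc₃ : VirtDim.RankAt ag S.X₃ x :=
    hag'.of_iso ((Scheme.Modules.pullbackComp f jg).app Ωg ≪≫
      ((Scheme.Modules.pullbackCongr (show (k' ≫ m') ≫ W₂.ι ≫ pullback.fst gg gh = f ≫ jg by
        rw [hk'm, ← Category.assoc, c.liftCoborder_ι, pullback.lift_fst])).app Ωg).symm ≪≫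
      ((Scheme.Modules.pullbackComp (k' ≫ m') (W₂.ι ≫ pullback.fst gg gh)).app Ωg).symm ≪≫
      (Scheme.Modules.pullback (k' ≫ m')).mapIso e₂.symm ≪≫ c₃.symm)
  -- the composite immersion
  have HW : IsPullback m' (W₁.ι ≫ qY) (W₂.ι ≫ pullback.fst gg gh) jg :=
    (isPullback_morphismRestrict m W₂).paste_vert (IsPullback.of_hasPullback jg (pullback.fst gg gh)).flip
  haveI : Flat (W₂.ι ≫ pullback.fst gg gh) := inferInstance
  obtain ⟨ψ, hψ, -⟩ := Kaehler.Conormal.existsUnique_conormalMap (i := m') (i' := jg)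
    (g := W₂.ι ≫ pullback.fst gg gh) (gZ := W₁.ι ≫ qY) HW.w.symm
  haveI := (Groth.Agent.S9372.result m' jg _ _ HW ψ hψ).2 inferInstance
  obtain ⟨φ₁, hφ₁, -⟩ := Kaehler.Conormal.existsUnique_conormalMap (i := k' ≫ m') (i' := m')
    (g := 𝟙 W₂.toScheme) (gZ := k') (Category.comp_id _).symm
  obtain ⟨φ₂, hφ₂, -⟩ := Kaehler.Conormal.existsUnique_conormalMap (i := k') (i' := k' ≫ m')
    (g := m') (gZ := 𝟙 X) (Category.id_comp _)
  obtain ⟨hepi, him⟩ := Kaehler.ConormalTriple.main hφ₁ hφ₂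
  haveI : Epi φ₂ := hepi
  haveI : Mono φ₁ := Inject.mono_of_koszul hφ₁ ((Synt92.KRImm.isRegularImmersion_iff k').1 hKR).2
  let S' := ShortComplex.mk φ₁ (Kaehler.ConormalTriple.bar φ₂) (Kaehler.ConormalTriple.zero hφ₁ hφ₂)
  haveI : Epi (Kaehler.ConormalTriple.bar φ₂) := epi_comp _ _
  have hS' : S'.ShortExact := { exact := (ShortComplex.exact_iff_image_eq_kernel S').mpr him }
  have hbg' : VirtDim.RankAt bg S'.X₁ x :=
    (RankAt.pullback f hbg).of_iso (((Scheme.Modules.pullbackCongr hkq').app (Omega.conormal jg)).symm ≪≫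
      ((Scheme.Modules.pullbackComp k' (W₁.ι ≫ qY)).app (Omega.conormal jg)).symm ≪≫
      (Scheme.Modules.pullback k').mapIso (asIso ψ))
  have hKR₂ : RegImm.IsRegularImmersion .koszul (k' ≫ m') :=
    Groth.Agent.S8656.result (f ≫ g) (Groth.Agent.S8661.result f g hf hg)
      ((W₂.ι ≫ pullback.snd gg gh) ≫ gh) (k' ≫ m') (by
        rw [hk'm, ← Category.assoc, ← Category.assoc, c.liftCoborder_ι, pullback.lift_snd, hjh])
  obtain ⟨n, hn⟩ := VirtDim.exists_rankAt (Koszul.isFinLocFree hKR₂) x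
  have h2 : n = bh + ag :=
    VirtDim.RankAt.add S hS (hbh.of_iso a.symm) (hn.of_iso b.symm) hc₃
  have h3 : n = bg + b₁ := VirtDim.RankAt.add S' hS' hbg' hn hb₁
  omega

end Groth.Agent.Lib.Conormal92.VirtDimComp
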